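import Cfsg.Agent.Lib.Fusion.RankThreePearl.Tower
import Cfsg.Agent.Lib.Fusion.RankThree.Linear
import Cfsg.Agent.Lib.Fusion.RankThreeAmalgam.Main
import Cfsg.Agent.Lib.Fusion.RankTwoInversion
import Cfsg.Agent.Lib.Fusion.EssentialFlag
import Cfsg.Agent.Lib.Fusion.EssentialPSq
import Cfsg.Agent.S5180
import Cfsg.Agent.S5185
import Cfsg.Agent.S5186

/-!
A fusion system without core on a `p`-group of sectional rank three has a pearl, `p ≥ 5`.
-/

set_option autoImplicit false
set_option linter.style.haveILetI false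
set_option linter.unusedSectionVars false

namespace CfsgLib.RankThreePearl

open Cfsg Cfsg.FusionSystem CfsgLib.Fusion CfsgLib.Fusion.EssentialFlag
open scoped commutatorElement

universe u

variable {Ω : Type u} [Group Ω] {S : Subgroup Ω} [Finite S] {F : FusionSystem S} {p : ℕ}
  [hp : Fact p.Prime] {E : Subgroup Ω}

/-- Sectional rank passes to a subgroup. -/
theorem rank_of_le (hsr : Cfsg.SectionalPRankLE p 3 S) (hES : E ≤ S) :
    Cfsg.SectionalPRankLE p 3 E := by
  intro H N _ A hA hexp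
  obtain ⟨f, hf⟩ : ∃ f : A.comap (QuotientGroup.mk' N) →* S, Function.Injective f :=
    ⟨((Subgroup.inclusion hES).comp H.subtype).comp (A.comap (QuotientGroup.mk' N)).subtype,
      ((Subgroup.inclusion_injective hES).comp Subtype.val_injective).comp Subtype.val_injective⟩
  haveI := hA
  have := CfsgLib.RankThree.rank_of_section hsr (H := f.range)
    (φ := ((QuotientGroup.mk' N).subgroupComap A).comp (MonoidHom.ofInjective hf).symm.toMonoidHom)
    ((MonoidHom.subgroupComap_surjective_of_surjective _ _ (QuotientGroup.mk'_surjective N)).comp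
      (MonoidHom.ofInjective hf).symm.surjective) ⊤ (fun a _ b _ => mul_comm' a b)
    (fun a _ => Subtype.ext (by rw [SubgroupClass.coe_pow]; exact hexp a a.2))
  rwa [Subgroup.card_top] at this

theorem ker_le_inn (hS : IsPGroup p S) (hE : F.IsEssential p E) {α : MulAut E}
    (hα : α ∈ F.autGroup E) (h1 : frattiniHom E α = 1) : α ∈ Cfsg.Inn E := by
  haveI := finite_of_le hE.1.1
  haveI := finite_mulAut E
  have hEp : IsPGroup p E := hS.to_le hE.1.1
  have hmem : (⟨α, hα⟩ : F.autGroup E) ∈ Cfsg.pCore p (F.autGroup E) :=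
    CfsgLib.Fitting.le_pCore
      (inferInstance : ((frattiniHom E).ker.subgroupOf (F.autGroup E)).Normal)
      (isPGroup_ker_frattiniHom hEp).comap_subtype (MonoidHom.mem_ker.2 h1)
  exact (isRadical_of_isEssential hS hE).2.le ⟨_, hmem, rfl⟩

theorem mem_of_frattiniHom (hS : IsPGroup p S) (hE : F.IsEssential p E) {g : Ω}
    (hg : g ∈ normalizerIn S E) (h1 : frattiniHom E (conjAut E hg.2) = 1) : g ∈ E := by
  by_contra hgE
  exact conjAut_notMem_inn (hE.1.2 E (isConj_refl hE.1.1)) hE.1.1 hg hgE (conjAut_apply E hg.2)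
    (ker_le_inn hS hE (autInducedBy_le_autGroup hE.1.1 (conjAut_mem_autInducedBy hg.2 hg.1)) h1)

/-- A `p`-group of automorphisms of a group of order `p ^ 2` has order at most `p`. -/
theorem card_aut_le {V : Type*} [Group V] [Finite V] (hV : Nat.card V = p ^ 2)
    (T : Subgroup (MulAut V)) (hT : IsPGroup p T) : Nat.card T ≤ p := by
  have hpp := hp.out
  haveI : Nontrivial V := Finite.one_lt_card_iff_nontrivial.1 (by
    rw [hV]; exact Nat.one_lt_pow two_ne_zero hpp.one_lt)
  obtain ⟨z, hz1, hzp, hzf⟩ := CfsgLib.RankThree.exists_fixed T.subtype hT (IsPGroup.of_card hV) inferInstance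
  obtain ⟨Z, hZ⟩ : ∃ Z, Z = Subgroup.zpowers z := ⟨_, rfl⟩
  have hZc : Nat.card Z = p := by rw [hZ, Nat.card_zpowers, orderOf_eq_prime hzp hz1]
  have hex : ∃ w, w ∉ Z := by
    by_contra hc
    push Not at hc
    have := Nat.card_le_card_of_surjective (fun x : Z => (x : V)) fun y => ⟨⟨y, hc y⟩, rfl⟩
    rw [hV, hZc, pow_two] at this
    exact absurd (this.trans (mul_one p).ge) (not_le.2 (Nat.mul_lt_mul_of_pos_left hpp.one_lt hpp.pos))
  obtain ⟨w, hw⟩ := hex
  have hgen : ∀ C : Subgroup V, Z ≤ C → w ∈ C → C = ⊤ := fun C hC hwC => by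
    obtain ⟨i, hi, hic⟩ := (Nat.dvd_prime_pow hpp).1 (hV ▸ Subgroup.card_subgroup_dvd_card C)
    have hlt : Nat.card Z < Nat.card C :=
      lt_of_le_of_ne (Subgroup.card_le_of_le hC) fun e =>
        hw ((Subgroup.eq_of_le_of_card_ge hC e.ge).ge hwC)
    refine (Subgroup.card_eq_iff_eq_top C).1 ?_
    rw [hZc, hic] at hlt
    have : 1 < i := (Nat.pow_lt_pow_iff_right hpp.one_lt).1 (by rwa [pow_one])
    rw [hic, hV, show i = 2 by omega]
  have hfix : ∀ t ∈ T, ∀ y ∈ Z, t y = y := fun t ht y hy => by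
    obtain ⟨n, rfl⟩ := Subgroup.mem_zpowers_iff.1 (hZ ▸ hy)
    rw [map_zpow]
    exact congrArg (· ^ n) (hzf ⟨t, ht⟩)
  have hd : ∀ t ∈ T, w⁻¹ * t w ∈ Z := fun t ht => by
    rcases eq_or_ne t 1 with rfl | ht1
    · simp
    obtain ⟨n, hn⟩ := hT ⟨t, ht⟩
    obtain ⟨Z', hZ'c, -, hfix', hd'⟩ := exists_fixed_line (p := p) ⟨2, le_rfl, hV⟩
      (congrArg Subtype.val hn) ht1
    have hle : Z ≤ Z' := by
      rw [hZ, Subgroup.zpowers_le]
      by_contra hzZ
      refine ht1 (MulEquiv.ext fun y => ?_)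
      have htop : t.toMonoidHom.eqLocus (MonoidHom.id V) = ⊤ := by
        refine (Subgroup.card_eq_iff_eq_top _).1 ?_
        obtain ⟨i, hi, hic⟩ := (Nat.dvd_prime_pow hpp).1
          (hV ▸ Subgroup.card_subgroup_dvd_card (t.toMonoidHom.eqLocus (MonoidHom.id V)))
        have hlt : Nat.card Z' < Nat.card (t.toMonoidHom.eqLocus (MonoidHom.id V)) :=
          lt_of_le_of_ne (Subgroup.card_le_of_le hfix') fun e =>
            hzZ ((Subgroup.eq_of_le_of_card_ge hfix' e.ge).ge (hzf ⟨t, ht⟩))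
        rw [hZ'c, hic] at hlt
        have : 1 < i := (Nat.pow_lt_pow_iff_right hpp.one_lt).1 (by rwa [pow_one])
        rw [hic, hV, show i = 2 by omega]
      exact (htop ▸ Subgroup.mem_top y : y ∈ t.toMonoidHom.eqLocus (MonoidHom.id V))
    rw [Subgroup.eq_of_le_of_card_ge hle (by rw [hZ'c, hZc])]
    exact hd' w
  rw [← hZc]
  refine Nat.card_le_card_of_injective (fun t : T => (⟨_, hd t t.2⟩ : Z)) fun s t hst => ?_
  have h1 : (s : MulAut V) w = (t : MulAut V) w := mul_left_cancel (congrArg Subtype.val hst)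
  have h2 := hgen ((s : MulAut V).toMonoidHom.eqLocus (t : MulAut V).toMonoidHom)
    (fun y hy => (hfix s s.2 y hy).trans (hfix t t.2 y hy).symm) h1
  exact Subtype.ext (MulEquiv.ext fun y =>
    (h2 ▸ Subgroup.mem_top y : y ∈ (s : MulAut V).toMonoidHom.eqLocus (t : MulAut V).toMonoidHom))

/-- Iterates of a transvection. -/
theorem transv_pow {V : Type*} [Group V] {v w : V} {σ : MulAut V} (hv : σ v = v) (hw : σ w = w * v) :
    ∀ n : ℕ, (σ ^ n) v = v ∧ (σ ^ n) w = w * v ^ n := by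
  intro n
  induction n with
  | zero => simp
  | succ n ih =>
    rw [pow_succ', MulAut.mul_apply, MulAut.mul_apply, ih.1, ih.2, map_mul, map_pow, hv, hw,
      mul_assoc, ← pow_succ']
    exact ⟨rfl, rfl⟩

/-- The data of an essential subgroup that is not normal and has at most two generators. -/
theorem exists_transv (hS : IsPGroup p S) (hF : F.IsSaturated p)
    (hsr : Cfsg.SectionalPRankLE p 3 S) (hE : F.IsEssential p E)
    (hidx : (frattini ↥E).index ≠ p ^ 3) :
    ∃ (v w : ↥E) (a b : MulAut ↥E), Transv p ↥E v w a b := by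
  classical
  have hpp := hp.out
  have hES := hE.1.1
  haveI := finite_of_le hES
  haveI := finite_mulAut E
  have hEp : IsPGroup p E := hS.to_le hES
  have hVp : ∀ a : ↥E ⧸ frattini ↥E, a ^ p = 1 := fun a => by
    obtain ⟨x, rfl⟩ := QuotientGroup.mk'_surjective (frattini ↥E) a
    rw [← map_pow, QuotientGroup.mk'_apply, QuotientGroup.eq_one_iff]
    exact CfsgLib.OddOmega.pow_mem_frattini hEp x
  have hVc : ∀ a b : ↥E ⧸ frattini ↥E, a * b = b * a := fun a b => by
    obtain ⟨x, rfl⟩ := QuotientGroup.mk'_surjective (frattini ↥E) a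
    obtain ⟨y, rfl⟩ := QuotientGroup.mk'_surjective (frattini ↥E) b
    rw [← commutatorElement_eq_one_iff_mul_comm, ← map_commutatorElement,
      QuotientGroup.mk'_apply, QuotientGroup.eq_one_iff]
    exact CfsgLib.HSub.commutator_le_frattini hEp
      (Subgroup.commutator_mem_commutator (Subgroup.mem_top x) (Subgroup.mem_top y))
  obtain ⟨k, hk⟩ := (hEp.to_quotient (frattini ↥E)).exists_card_eq
  have hcard : ∃ j ≤ 2, Nat.card (↥E ⧸ frattini ↥E) = p ^ j := by
    refine ⟨k, ?_, hk⟩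
    have h1 := CfsgLib.RankThree.rank_of_section hsr (H := E.subgroupOf S)
      (φ := (QuotientGroup.mk' (frattini ↥E)).comp (Subgroup.subgroupOfEquivOfLe hES).toMonoidHom)
      ((QuotientGroup.mk'_surjective _).comp (Subgroup.subgroupOfEquivOfLe hES).surjective) ⊤
      (fun a _ b _ => hVc a b) fun a _ => hVp a
    rw [Subgroup.card_top, hk] at h1
    have h3 := (Nat.pow_le_pow_iff_right hpp.one_lt).1 h1
    have h4 : k ≠ 3 := fun e => hidx (by rw [Subgroup.index_eq_card, hk, e])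
    omega
  obtain ⟨g, hg, hgE⟩ := SetLike.exists_of_lt
    (lt_normalizerIn hS hES (ne_of_isEssential hS hF hE))
  have hgA := autInducedBy_le_autGroup (F := F) hES (conjAut_mem_autInducedBy hg.2 hg.1)
  obtain ⟨θ, hθ⟩ : ∃ θ : F.autGroup E →* MulAut (↥E ⧸ frattini ↥E),
      θ = (frattiniHom ↥E).comp (F.autGroup E).subtype := ⟨_, rfl⟩
  have hker : IsPGroup p θ.ker := by
    rw [hθ, ← MonoidHom.comap_ker]
    exact (isPGroup_ker_frattiniHom hEp).comap_subtype
  have hna : (⟨_, hgA⟩ : F.autGroup E) ∉ Cfsg.pCore p (F.autGroup E) := fun hc =>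
    hgE (mem_of_mem_pCore hE.1 (isRadical_of_isEssential hS hE) hg (conjAut_apply E hg.2) hc)
  obtain ⟨n, hn⟩ := isPGroup_autInducedBy hS E ⟨_, conjAut_mem_autInducedBy hg.2 hg.1⟩
  have hn' : θ ⟨_, hgA⟩ ^ p ^ n = 1 := by
    rw [hθ, MonoidHom.comp_apply, ← map_pow]
    exact (congrArg _ (congrArg Subtype.val hn)).trans (map_one _)
  have hθ1 : θ ⟨_, hgA⟩ ≠ 1 := fun e => hgE (mem_of_frattiniHom hS hE hg (by
    rw [hθ, MonoidHom.comp_apply] at e; exact e))
  obtain ⟨-, -, hV, -, -⟩ := exists_fixed_line hcard hn' hθ1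
  obtain ⟨v, w, b, hgen, hav, haw, hbw, hbv⟩ := exists_transvection_pair θ hker hcard hn' hna
  obtain ⟨v', rfl⟩ := QuotientGroup.mk'_surjective (frattini ↥E) v
  obtain ⟨w', rfl⟩ := QuotientGroup.mk'_surjective (frattini ↥E) w
  have htop : Subgroup.closure {v', w'} = ⊤ := by
    obtain ⟨C, hC⟩ : ∃ C, C = (Subgroup.closure {v', w'}).map (QuotientGroup.mk' (frattini ↥E)) :=
      ⟨_, rfl⟩
    have hvC : QuotientGroup.mk' (frattini ↥E) v' ∈ C :=
      hC ▸ ⟨v', Subgroup.subset_closure (by simp), rfl⟩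
    have hwC : QuotientGroup.mk' (frattini ↥E) w' ∈ C :=
      hC ▸ ⟨w', Subgroup.subset_closure (by simp), rfl⟩
    have hv1 : QuotientGroup.mk' (frattini ↥E) v' ≠ 1 := fun e => by
      refine hθ1 (MulEquiv.ext fun y => DFunLike.congr_fun
        (hgen (θ ⟨_, hgA⟩).toMonoidHom (MonoidHom.id _) hav ?_) y)
      show θ ⟨_, hgA⟩ _ = _
      rw [haw, e, mul_one]
      rfl
    have hwv : QuotientGroup.mk' (frattini ↥E) w' ∉
        Subgroup.zpowers (QuotientGroup.mk' (frattini ↥E) v') := fun hw => by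
      obtain ⟨i, hi⟩ := Subgroup.mem_zpowers_iff.1 hw
      have h1 := haw
      rw [← hi, map_zpow, hav, left_eq_mul] at h1
      exact hv1 h1
    have hCt : C = ⊤ := by
      obtain ⟨i, hi, hic⟩ := (Nat.dvd_prime_pow hpp).1 (show Nat.card C ∣ p ^ 2 by
        rw [pow_two, ← hV]; exact Subgroup.card_subgroup_dvd_card C)
      have hle : Subgroup.zpowers (QuotientGroup.mk' (frattini ↥E) v') ≤ C := Subgroup.zpowers_le.2 hvC
      have hlt : p < Nat.card C := by
        rw [← orderOf_eq_prime (hVp _) hv1, ← Nat.card_zpowers]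
        exact lt_of_le_of_ne (Subgroup.card_le_of_le hle) fun e =>
          hwv ((Subgroup.eq_of_le_of_card_ge hle e.ge).ge hwC)
      rw [hic] at hlt
      nth_rw 1 [← pow_one p] at hlt
      have := (Nat.pow_lt_pow_iff_right hpp.one_lt).1 hlt
      refine (Subgroup.card_eq_iff_eq_top C).1 ?_
      rw [hic, hV, show i = 2 by omega, pow_two]
    refine frattini_nongenerating (top_le_iff.1 fun x _ => ?_)
    obtain ⟨y, hy, hyx⟩ := (hC ▸ hCt.ge (Subgroup.mem_top (QuotientGroup.mk' (frattini ↥E) x)))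
    have h1 : y⁻¹ * x ∈ frattini ↥E := by
      rw [← QuotientGroup.eq]; exact hyx
    have := Subgroup.mul_mem_sup hy h1
    rwa [mul_inv_cancel_left] at this
  have hm : ∀ (α : F.autGroup E) (x y : ↥E),
      θ α (QuotientGroup.mk' _ x) = QuotientGroup.mk' _ y → y⁻¹ * (α : MulAut ↥E) x ∈ frattini ↥E :=
    fun α x y he => by
      rw [hθ, MonoidHom.comp_apply, QuotientGroup.mk'_apply, frattiniHom_mk, QuotientGroup.mk'_apply] at he
      exact QuotientGroup.eq.1 he.symm
  have hpw : ∀ α : F.autGroup E, θ α ^ p = 1 → ((α : MulAut ↥E)) ^ p ∈ (MulAut.conj (G := ↥E)).range :=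
    fun α hα => ker_le_inn hS hE ((F.autGroup E).pow_mem α.2 p) (by
      rw [hθ, MonoidHom.comp_apply] at hα
      rw [map_pow]; exact hα)
  refine ⟨v', w', _, (b : MulAut ↥E), hEp, by rw [Subgroup.index_eq_card, hV, pow_two], htop,
    hm _ _ _ hav, hm _ _ _ (by rw [haw, map_mul]), hm _ _ _ hbw, hm _ _ _ (by rw [hbv, map_mul, map_inv]),
    hpw _ ?_, hpw _ ?_⟩
  · have h1 := transv_pow hav haw p
    refine MulEquiv.ext fun y => DFunLike.congr_fun (hgen (θ _ ^ p).toMonoidHom (MonoidHom.id _)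
      h1.1 ?_) y
    show (θ _ ^ p) _ = _
    rw [h1.2, hVp, mul_one]
    rfl
  · have hinvw : θ b (QuotientGroup.mk' _ w')⁻¹ = (QuotientGroup.mk' _ w')⁻¹ := by rw [map_inv, hbw]
    have h1 := transv_pow hinvw hbv p
    refine MulEquiv.ext fun y => DFunLike.congr_fun (hgen (θ b ^ p).toMonoidHom (MonoidHom.id _)
      ?_ ?_) y
    · show (θ b ^ p) _ = _
      rw [h1.2, hVp, mul_one]
      rfl
    · show (θ b ^ p) _ = _
      rw [← inv_inj, ← map_inv, h1.1]
      rfl

theorem gam_map_subtype (E : Subgroup Ω) (n : ℕ) :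
    (gam ↥E n).map E.subtype = E.lowerCentralSeries n := Subgroup.top_subtype_lowerCentralSeries E n

theorem mem_lcs {n : ℕ} {x : ↥E} : (x : Ω) ∈ E.lowerCentralSeries n ↔ x ∈ gam ↥E n := by
  rw [← gam_map_subtype]
  exact Subgroup.mem_map_iff_mem E.subtype_injective

/-- An essential subgroup with at most two generators that is not normal in `S` is small. -/
theorem card_le_cube (hS : IsPGroup p S) (hF : F.IsSaturated p) (hp5 : 5 ≤ p)
    (hsr : Cfsg.SectionalPRankLE p 3 S) (hE : F.IsEssential p E)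
    (hidx : (frattini ↥E).index ≠ p ^ 3) (hnn : ¬ S ≤ Subgroup.normalizer (E : Set Ω)) :
    p ^ 2 ≤ Nat.card E ∧ Nat.card E ≤ p ^ 3 := by
  classical
  have hpp := hp.out
  have hES := hE.1.1
  haveI := finite_of_le hES
  haveI := finite_mulAut E
  obtain ⟨v, w, a, b, hT⟩ := exists_transv hS hF hsr hE hidx
  refine ⟨?_, ?_⟩
  · rw [← (frattini ↥E).index_mul_card, hT.idx]
    exact Nat.le_mul_of_pos_right _ Nat.card_pos
  by_contra hbig
  have h2 : gam ↥E 2 ≠ ⊥ := fun e => hbig (hT.card_le hp5 e)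
  have h3 := hT.gam_three hp5 (rank_of_le hsr hES) h2
  obtain ⟨hinj, hidx3⟩ := (hT.layer_three hp5).resolve_left h2
  have hidx2 := hT.relIndex_one hp5 h2
  -- the normaliser and a conjugate
  obtain ⟨N, hN⟩ : ∃ N, N = normalizerIn S E := ⟨_, rfl⟩
  have hNS : N ≤ S := hN ▸ inf_le_left
  haveI : Finite N := finite_of_le hNS
  have hEN : E ≤ N := hN ▸ le_normalizerIn hES
  have hneS : N ≠ S := fun e => hnn (e.ge.trans (hN ▸ inf_le_right))
  obtain ⟨x, hx, hxN⟩ := SetLike.exists_of_lt (lt_normalizerIn hS hNS hneS)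
  obtain ⟨E', hE'⟩ : ∃ E' : Subgroup Ω, E' = E.map (MulAut.conj x).toMonoidHom := ⟨_, rfl⟩
  have hmem' : ∀ z, z ∈ E' ↔ x⁻¹ * z * x ∈ E := fun z => by
    rw [hE']
    constructor
    · rintro ⟨e, he, rfl⟩
      rw [MulEquiv.coe_toMonoidHom, MulAut.conj_apply]
      rwa [show x⁻¹ * (x * e * x⁻¹) * x = e by group]
    · exact fun h => ⟨_, h, by rw [MulEquiv.coe_toMonoidHom, MulAut.conj_apply]; group⟩
  have hE'N : E' ≤ N := by
    rw [hE']
    rintro _ ⟨e, he, rfl⟩
    exact (Subgroup.mem_normalizer_iff.1 hx.2 e).1 (hEN he)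
  haveI : Finite E' := finite_of_le (hE'N.trans hNS)
  have hne : E' ≠ E := fun e => hxN (by
    rw [hN]
    refine ⟨hx.1, Subgroup.mem_normalizer_iff.2 fun z => ⟨fun hz => e.le ?_, fun hz => ?_⟩⟩
    · rw [hmem', show x⁻¹ * (x * z * x⁻¹) * x = z by group]; exact hz
    · have := (hmem' _).1 (e.ge hz)
      rwa [show x⁻¹ * (x * z * x⁻¹) * x = z by group] at this)
  have hcardE' : Nat.card E' = Nat.card E := by
    rw [hE']; exact Subgroup.card_map_of_injective (MulAut.conj x).injective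
  have hlcs : ∀ n, Nat.card (E'.lowerCentralSeries n) = Nat.card (E.lowerCentralSeries n) := fun n => by
    rw [hE', ← Subgroup.map_lowerCentralSeries]
    exact Subgroup.card_map_of_injective (MulAut.conj x).injective
  -- the index of `E` in its normaliser
  have hNidx : E.relIndex N = p := by
    obtain ⟨κ, hκ⟩ : ∃ κ : N →* MulAut (↥E ⧸ frattini ↥E), ∀ (g : Ω) (hg : g ∈ normalizerIn S E),
        κ ⟨g, hN.symm ▸ hg⟩ = frattiniHom ↥E (conjAut E hg.2) := by
      refine ⟨(frattiniHom ↥E).comp (MonoidHom.mk' (fun g => conjAut E (show (g : Ω) ∈ normalizerIn S E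
        from hN.le g.2).2) fun a b => MulEquiv.ext fun y => Subtype.ext ?_), fun g hg => rfl⟩
      rw [MulAut.mul_apply, conjAut_apply, conjAut_apply, conjAut_apply, Subgroup.coe_mul]
      group
    have hker : κ.ker = E.subgroupOf N := by
      ext ⟨g, hg⟩
      have hg' : g ∈ normalizerIn S E := hN.le hg
      rw [MonoidHom.mem_ker, Subgroup.mem_subgroupOf, hκ g hg']
      refine ⟨mem_of_frattiniHom hS hE hg', fun hgE => MulEquiv.ext fun y => ?_⟩
      obtain ⟨e, rfl⟩ := QuotientGroup.mk'_surjective (frattini ↥E) y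
      rw [QuotientGroup.mk'_apply, frattiniHom_mk, MulAut.one_apply, QuotientGroup.eq]
      have h1 : (conjAut E hg'.2 e)⁻¹ * e = ⁅(⟨g, hgE⟩ : ↥E), e⁻¹⁆ := by
        refine Subtype.ext ?_
        simp only [Subgroup.coe_mul, Subgroup.coe_inv, conjAut_apply, commutatorElement_def]
        group
      rw [h1]; exact hT.comm_frattini _ _
    have hrp : IsPGroup p κ.range := (hS.to_le hNS).of_surjective κ.rangeRestrict κ.rangeRestrict_surjective
    have hle : Nat.card κ.range ≤ p :=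
      card_aut_le (by rw [← Subgroup.index_eq_card]; exact hT.idx) _ hrp
    have hne1 : Nat.card κ.range ≠ 1 := fun e => by
      rw [← Subgroup.index_ker, hker, Subgroup.index_eq_one, Subgroup.subgroupOf_eq_top] at e
      exact (lt_normalizerIn hS hES (ne_of_isEssential hS hF hE)).not_ge (hN ▸ e)
    obtain ⟨i, hi⟩ := hrp.exists_card_eq
    show (E.subgroupOf N).index = p
    rw [← hker, Subgroup.index_ker, hi]
    rw [hi] at hle hne1
    have : i ≤ 1 := (Nat.pow_le_pow_iff_right hpp.one_lt).1 (by rwa [pow_one])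
    interval_cases i
    · exact absurd (pow_zero p) hne1
    · exact pow_one p
  have hE'idx : (E'.subgroupOf N).index = p := by
    have h1 := (E.subgroupOf N).index_mul_card
    rw [show (E.subgroupOf N).index = p from hNidx,
      Nat.card_congr (Subgroup.subgroupOfEquivOfLe hEN).toEquiv] at h1
    have h2 := (E'.subgroupOf N).index_mul_card
    rw [Nat.card_congr (Subgroup.subgroupOfEquivOfLe hE'N).toEquiv, hcardE', ← h1] at h2
    exact Nat.eq_of_mul_eq_mul_right Nat.card_pos h2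
  -- the derived subgroup of `E` lies in `E'`
  have h1E' : E.lowerCentralSeries 1 ≤ E' := by
    rw [Subgroup.lowerCentralSeries_succ, Subgroup.lowerCentralSeries_zero, Subgroup.commutator_le]
    intro e he f hf
    haveI := CfsgLib.RankThreeAmalgam.normal_of_index (hS.to_le hNS) hE'idx
    have hcyc : IsCyclic (N ⧸ E'.subgroupOf N) :=
      isCyclic_of_prime_card (p := p) (by rw [← Subgroup.index_eq_card]; exact hE'idx)
    have h1 : QuotientGroup.mk' (E'.subgroupOf N) ⁅(⟨e, hEN he⟩ : N), ⟨f, hEN hf⟩⁆ = 1 := by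
      rw [map_commutatorElement, commutatorElement_eq_one_iff_mul_comm]
      exact (IsCyclic.commGroup (α := N ⧸ E'.subgroupOf N)).mul_comm _ _
    have h2 := (QuotientGroup.eq_one_iff _).1 h1
    rw [Subgroup.mem_subgroupOf] at h2
    simpa [commutatorElement_def] using h2
  -- elements of `N` preserve the series
  have hconj : ∀ n : ℕ, ∀ g ∈ N, ∀ z ∈ E.lowerCentralSeries n, g * z * g⁻¹ ∈ E.lowerCentralSeries n := by
    intro n g hg z hz
    have hEmap : E.map (MulAut.conj g).toMonoidHom = E := by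
      have hgn : g ∈ Subgroup.normalizer (E : Set Ω) := (hN.le hg).2
      refine le_antisymm ?_ fun e he => ⟨g⁻¹ * e * g, ?_, ?_⟩
      · rintro _ ⟨e, he, rfl⟩
        exact (Subgroup.mem_normalizer_iff.1 hgn e).1 he
      · have := (Subgroup.mem_normalizer_iff.1 (Subgroup.inv_mem _ hgn) e).1 he
        rwa [inv_inv] at this
      · rw [MulEquiv.coe_toMonoidHom, MulAut.conj_apply]; group
    have h1 : (E.lowerCentralSeries n).map (MulAut.conj g).toMonoidHom = E.lowerCentralSeries n := by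
      rw [Subgroup.map_lowerCentralSeries, hEmap]
    exact h1.le ⟨z, hz, by rw [MulEquiv.coe_toMonoidHom, MulAut.conj_apply]⟩
  -- the derived subgroups agree
  have hL1 : E'.lowerCentralSeries 1 = E.lowerCentralSeries 1 := by
    haveI : Finite (E.lowerCentralSeries 1) := finite_of_le (h1E'.trans (hE'N.trans hNS))
    refine Subgroup.eq_of_le_of_card_ge ?_ (hlcs 1).ge
    obtain ⟨L, hL⟩ : ∃ L, L = (E.lowerCentralSeries 1).subgroupOf E' := ⟨_, rfl⟩
    haveI : L.Normal := ⟨fun z hz g => by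
      rw [hL, Subgroup.mem_subgroupOf] at hz ⊢
      exact hconj 1 g (hE'N g.2) _ hz⟩
    have hLc : Nat.card (E' ⧸ L) = p ^ 2 := by
      have h1 := (frattini ↥E).index_mul_card
      have h2 := L.index_mul_card
      rw [hT.idx, hT.frattini_eq hp5, ← Subgroup.card_map_of_injective E.subtype_injective,
        gam_map_subtype] at h1
      rw [hcardE', ← h1, hL, Nat.card_congr (Subgroup.subgroupOfEquivOfLe h1E').toEquiv, ← hL] at h2
      rw [← Subgroup.index_eq_card]
      exact Nat.eq_of_mul_eq_mul_right Nat.card_pos h2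
    rw [Subgroup.lowerCentralSeries_succ, Subgroup.lowerCentralSeries_zero, Subgroup.commutator_le]
    intro e he f hf
    have h1 : QuotientGroup.mk' L ⁅(⟨e, he⟩ : E'), ⟨f, hf⟩⁆ = 1 := by
      rw [map_commutatorElement, commutatorElement_eq_one_iff_mul_comm]
      exact comm_of_card_le_sq (p := p) ⟨2, le_rfl, hLc⟩ _ _
    have h2 := (QuotientGroup.eq_one_iff _).1 h1
    rw [hL, Subgroup.mem_subgroupOf] at h2
    simpa [commutatorElement_def] using h2
  -- so do the next terms
  have hL2 : E'.lowerCentralSeries 2 = E.lowerCentralSeries 2 := by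
    haveI : Finite (E.lowerCentralSeries 2) := finite_of_le ((Subgroup.lowerCentralSeries_le_self E 2).trans hES)
    refine Subgroup.eq_of_le_of_card_ge ?_ (hlcs 2).ge
    rw [Subgroup.lowerCentralSeries_succ, hL1, Subgroup.commutator_le]
    intro l hl y hy
    have hyN : y ∈ normalizerIn S E := hN.le (hE'N hy)
    obtain ⟨k, hk⟩ := isPGroup_autInducedBy hS E ⟨_, conjAut_mem_autInducedBy hyN.2 hyN.1⟩
    have hstep : ∀ z ∈ gam ↥E 1, z⁻¹ * conjAut E hyN.2 z ∈ gam ↥E 2 :=
      step_stabilised (smallStep_of_relIndex hpp ((⊤ : Subgroup ↥E).lowerCentralSeries_antitone (by omega)) hidx2)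
        (fun z hz => gam_map _ 2 hz) (fun z hz => gam_map _ 1 hz) (congrArg Subtype.val hk)
    have hlE : l ∈ E := Subgroup.lowerCentralSeries_le_self E 1 hl
    have hm := hstep ⟨l, hlE⟩ (mem_lcs.1 hl)
    rw [← mem_lcs, Subgroup.coe_mul, Subgroup.coe_inv, conjAut_apply] at hm
    have h5 := hconj 2 l (hEN hlE) _ (Subgroup.inv_mem _ hm)
    rw [commutatorElement_def]
    rwa [show l * (l⁻¹ * (y * l * y⁻¹))⁻¹ * l⁻¹ = l * y * l⁻¹ * y⁻¹ by group] at h5
  have hbot : E'.lowerCentralSeries 3 = ⊥ := by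
    haveI : Finite (E'.lowerCentralSeries 3) :=
      finite_of_le ((Subgroup.lowerCentralSeries_le_self E' 3).trans (hE'N.trans hNS))
    refine Subgroup.eq_bot_of_card_eq _ ?_
    rw [hlcs 3, ← gam_map_subtype, h3, Subgroup.map_bot, Subgroup.card_bot]
  -- an element of `E'` outside `E`
  obtain ⟨y, hy, hyE⟩ : ∃ y ∈ E', y ∉ E := by
    by_contra hc
    push Not at hc
    exact hne (Subgroup.eq_of_le_of_card_ge (fun z hz => hc z hz) hcardE'.ge)
  have hyN : y ∈ normalizerIn S E := hN.le (hE'N hy)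
  refine hyE (mem_of_frattiniHom hS hE hyN (MulEquiv.ext fun q => ?_))
  obtain ⟨e, rfl⟩ := QuotientGroup.mk'_surjective (frattini ↥E) q
  obtain ⟨α, hα⟩ : ∃ α, α = conjAut E hyN.2 := ⟨_, rfl⟩
  rw [← hα, QuotientGroup.mk'_apply, frattiniHom_mk, MulAut.one_apply, QuotientGroup.eq]
  have hfix : ∀ z ∈ gam ↥E 2, α z = z := fun z hz => by
    have h1 : ⁅(z : Ω), y⁆ = 1 := by
      rw [← Subgroup.mem_bot, ← hbot, Subgroup.lowerCentralSeries_succ, hL2]
      exact Subgroup.commutator_mem_commutator (mem_lcs.2 hz) hy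
    rw [commutatorElement_eq_one_iff_mul_comm] at h1
    refine Subtype.ext ?_
    rw [hα, conjAut_apply, ← h1, mul_inv_cancel_right]
  have hz2 : ∀ z ∈ gam ↥E 2, ∀ g, z * g = g * z := fun z hz g => by
    rw [← commutatorElement_eq_one_iff_mul_comm, ← Subgroup.mem_bot, ← h3]
    exact comm_mem_gam hz g
  obtain ⟨k, hk⟩ := isPGroup_autInducedBy hS E ⟨_, conjAut_mem_autInducedBy hyN.2 hyN.1⟩
  have hcm : ⁅v, w⁆ ∈ gam ↥E 1 := comm_mem_gam (n := 0) (Subgroup.mem_top v) w
  have hd : ⁅v, w⁆⁻¹ * α ⁅v, w⁆ ∈ gam ↥E 2 := by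
    rw [hα]
    exact step_stabilised (smallStep_of_relIndex hpp ((⊤ : Subgroup ↥E).lowerCentralSeries_antitone (by omega)) hidx2)
      (fun z hz => gam_map _ 2 hz) (fun z hz => gam_map _ 1 hz) (congrArg Subtype.val hk) _ hcm
  obtain ⟨c, hc⟩ : ∃ c, c = ⁅v, w⁆ := ⟨_, rfl⟩
  rw [← hc] at hd
  have heq : ⁅c, α e⁆ = ⁅c, e⁆ := by
    have h1 : α ⁅c, e⁆ = ⁅c, e⁆ := hfix _ (comm_mem_gam (hc ▸ hcm) e)
    rw [map_commutatorElement, ← mul_inv_cancel_left c (α c), commutatorElement_mul_left_eq_conj_mul,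
      commutatorElement_eq_one_iff_mul_comm.2 (hz2 _ hd _), mul_one, mul_inv_cancel, one_mul] at h1
    exact h1
  have hcomm : ⁅c, e⁻¹ * α e⁆ = 1 := by
    rw [commutatorElement_eq_one_iff_mul_comm]
    simp only [commutatorElement_def] at heq
    calc c * (e⁻¹ * α e) = e⁻¹ * (c * e * c⁻¹ * e⁻¹)⁻¹ * (c * α e * c⁻¹ * (α e)⁻¹) * (α e * c) := by group
      _ = e⁻¹ * α e * c := by rw [heq]; group
  have h5 := hinj (e⁻¹ * α e) (by rw [← hc, hcomm]; exact Subgroup.one_mem _)
  have h6 := Subgroup.inv_mem _ h5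
  rwa [mul_inv_rev, inv_inv] at h6

/-- A fusion system without core in sectional rank three has a pearl. -/
theorem exists_pearl (hS : IsPGroup p S) (hF : F.IsSaturated p) (hp5 : 5 ≤ p)
    (hsr : Cfsg.SectionalPRankLE p 3 S ∧ ¬ Cfsg.SectionalPRankLE p 2 S) (hO : F.core = ⊥) :
    ∃ E : Subgroup Ω, F.IsEssential p E ∧ ((Cfsg.IsElementaryAbelian p E ∧ Nat.card E = p ^ 2) ∨
      (Cfsg.IsExtraspecial p ↥E ∧ Nat.card E = p ^ 3 ∧ ∀ x ∈ E, x ^ p = 1)) := by
  classical
  have hpp := hp.out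
  have hp2 : p ≠ 2 := by omega
  by_cases hn : ∀ P, F.IsEssential p P → S ≤ Subgroup.normalizer (P : Set Ω)
  · -- the amalgam of normal essential subgroups
    open CfsgLib.RankThreeAmalgam in
    have hgood : (sysOf F {P | F.IsEssential p P}).Good p := by
      refine good_sysOf hS hF hp2 hsr.1 (fun P hP => hP) (fun P hP => hn P hP) ?_
      intro P hP Q f hf hiso
      refine isEssential_image hP hiso fun g hg => ?_
      refine mem_normalizer_of_conj_mem hiso.le_right fun y hy => ?_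
      obtain ⟨x, hx, rfl⟩ := hiso.surj hy
      have hfS := hf.isIso_of_card_le (fun z hz => hf.mem hz) le_rfl
      obtain ⟨g', hg', rfl⟩ := hfS.surj hg
      rw [← hf.map_conj hg' (hiso.le_left hx)]
      exact hiso.mem ((Subgroup.mem_normalizer_iff.1 (hn P hP hg') x).1 hx)
    have hcore := CfsgLib.RankThreeAmalgam.noCore_sysOf hS hF hO hn
    have hne : (CfsgLib.RankThreeAmalgam.sysOf F {P | F.IsEssential p P}).ℰ.Nonempty := by
      by_contra hne
      have htop := hcore ⊤ (fun φ _ y _ => Subgroup.mem_top _) (fun E hE => absurd ⟨E, hE⟩ hne)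
        fun E hE => absurd ⟨E, hE⟩ hne
      refine hsr.2 fun H M _ A _ _ => ?_
      haveI : Subsingleton S := ⟨fun a b => by
        rw [Subgroup.mem_bot.1 (htop.le (Subgroup.mem_top a)),
          Subgroup.mem_bot.1 (htop.le (Subgroup.mem_top b))]⟩
      haveI : Subsingleton (H ⧸ M) := (QuotientGroup.mk'_surjective M).subsingleton
      exact (Finite.card_le_one_iff_subsingleton.2 inferInstance).trans (Nat.one_le_pow _ _ hpp.pos)
    obtain ⟨E₁, hE₁, E₂, hE₂, G, v, r, s, hSh, hG⟩ := hgood.exists_shape hne hcore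
    obtain ⟨k, hk⟩ := (hgood.pY.to_subgroup G).exists_card_eq
    have hk1 : k ≤ 1 := (Nat.pow_le_pow_iff_right hpp.one_lt).1 (by rw [← hk, pow_one]; exact hG)
    interval_cases k
    · exact absurd (hSh.rank_two hgood.pY (hgood.idx E₁ hE₁) (hgood.idx E₂ hE₂)
        (Subgroup.eq_bot_of_card_eq _ (hk.trans (pow_zero p)))) hsr.2
    · rw [pow_one] at hk
      obtain ⟨-, -, -, hx, hxc, hxp⟩ := hSh.sp4 hgood.pY hgood.podd hgood.rank (hgood.idx E₁ hE₁)
        (hgood.idx E₂ hE₂) hk (hgood.shape_comm_ne hcore hE₁ hE₂ hSh hk)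
      obtain ⟨e, -⟩ : ∃ e : ↥E₂ ≃* ↥(CfsgLib.RankThreeAmalgam.up E₂), True :=
        ⟨E₂.equivMapOfInjective S.subtype S.subtype_injective, trivial⟩
      refine ⟨CfsgLib.RankThreeAmalgam.up E₂, hE₂, Or.inr ?_⟩
      haveI : Finite ↥(CfsgLib.RankThreeAmalgam.up E₂) := finite_of_le (CfsgLib.RankThreeAmalgam.up_le E₂)
      have hcard : Nat.card ↥(CfsgLib.RankThreeAmalgam.up E₂) = p ^ 3 := by
        rw [← Nat.card_congr e.toEquiv, hxc]
      have hexp : ∀ x : ↥(CfsgLib.RankThreeAmalgam.up E₂), x ^ p = 1 := fun x => by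
        obtain ⟨y, rfl⟩ := e.surjective x
        rw [← map_pow, Subtype.ext (show ((y ^ p : ↥E₂) : ↥S) = ((1 : ↥E₂) : ↥S) by
          rw [SubgroupClass.coe_pow, hxp y y.2]; rfl), map_one]
      refine ⟨CfsgLib.Fusion.SmallNonabelian.isExtraspecial_of_exp hcard (fun hab => ?_) hexp, hcard,
        fun x hx => congrArg Subtype.val (hexp ⟨x, hx⟩)⟩
      have hab' : ∀ a b : ↥E₂, a * b = b * a := fun a b => e.injective (by rw [map_mul, map_mul, hab])
      exact hgood.shape_comm_ne hcore hE₁ hE₂ hSh hk (commutatorElement_eq_one_iff_mul_comm.2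
        (congrArg Subtype.val (hab' ⟨r, hSh.rE'⟩ ⟨s, hSh.sE'⟩)))
  · push Not at hn
    obtain ⟨E, hE, hnn⟩ := hn
    haveI := finite_of_le hE.1.1
    have hidx : (frattini ↥E).index ≠ p ^ 3 := fun e =>
      hnn (Cfsg.Agent.S5180.result p hp5 hS hsr F hF E hE e)
    obtain ⟨hlo, hhi⟩ := card_le_cube hS hF hp5 hsr.1 hE hidx hnn
    obtain ⟨k, hk⟩ := (hS.to_le hE.1.1).exists_card_eq
    rw [hk] at hlo hhi
    have h1 := (Nat.pow_le_pow_iff_right hpp.one_lt).1 hlo
    have h2 := (Nat.pow_le_pow_iff_right hpp.one_lt).1 hhi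
    refine ⟨E, hE, ?_⟩
    interval_cases k
    · exact Or.inl ⟨(Cfsg.Agent.S5185.result p hS F hF E hE hk).1, hk⟩
    · rcases Cfsg.Agent.S5186.result p hS F hF E hE hk with hel | ⟨-, hx, hxp⟩ | ⟨h, -⟩
      · exfalso
        refine hidx ?_
        have hbot : frattini ↥E = ⊥ := by
          refine le_bot_iff.1 (CfsgLib.Critical.frattini_le_of_elementary (p := p) ⊥ ?_ fun x => ?_)
          · rw [commutator_def, Subgroup.commutator_le]
            intro a _ b _
            rw [Subgroup.mem_bot, commutatorElement_eq_one_iff_mul_comm]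
            exact hel.1.is_comm.comm a b
          · exact Subgroup.mem_bot.2 (Subtype.ext (by rw [SubgroupClass.coe_pow]; exact hel.2 x x.2))
        rw [hbot, Subgroup.index_bot, hk]
      · exact Or.inr ⟨hx, hk, hxp⟩
      · exact absurd h hp2

end CfsgLib.RankThreePearl
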