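import Mathlib
import Cfsg.Prelude.Def_CaseTheorems
import Cfsg.Agent.Lib.Fusion.RankThree.Frame
import Cfsg.Agent.Lib.Critical.Basic
import Cfsg.Agent.Lib.OddOmega.Basic
import Cfsg.Agent.Lib.HSub.Fusion

/-!
A two-generator `p`-group with two opposite transvections in its automorphism group, in sectional
rank three.
-/

set_option autoImplicit false
set_option linter.style.haveILetI false
set_option linter.unusedSectionVars false

namespace CfsgLib.RankThreePearl

open scoped commutatorElement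

variable {G : Type*} [Group G]

/-- The lower central series of the whole group. -/
abbrev gam (G : Type*) [Group G] (n : ℕ) : Subgroup G := (⊤ : Subgroup G).lowerCentralSeries n

theorem gam_map (α : MulAut G) (n : ℕ) {x : G} (hx : x ∈ gam G n) : α x ∈ gam G n :=
  (Subgroup.characteristic_iff_map_eq.1
    (inferInstance : (gam G n).Characteristic) α).le ⟨x, hx, rfl⟩

theorem comm_mem_gam {n : ℕ} {x : G} (hx : x ∈ gam G n) (e : G) : ⁅x, e⁆ ∈ gam G (n + 1) :=
  Subgroup.commutator_mem_commutator hx (Subgroup.mem_top e)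

/-- A repeated term of the series is trivial. -/
theorem eq_bot_of_stable [Group.IsNilpotent G] {n : ℕ} (h : gam G n = gam G (n + 1)) :
    gam G n = ⊥ := by
  have hall : ∀ k, gam G (n + k) = gam G n := by
    intro k
    induction k with
    | zero => rfl
    | succ k ih =>
      show ⁅gam G (n + k), (⊤ : Subgroup G)⁆ = _
      rw [ih]
      exact h.symm
  obtain ⟨m, hm⟩ := Subgroup.nilpotent_iff_lowerCentralSeries.1 (inferInstance : Group.IsNilpotent G)
  rw [← hall m, eq_bot_iff]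
  exact le_trans ((⊤ : Subgroup G).lowerCentralSeries_antitone (Nat.le_add_left m n)) hm.le

theorem comm_mul_right {x : G} (e f : G) (h : ∀ g, ⁅x, f⁆ * g = g * ⁅x, f⁆) :
    ⁅x, e * f⁆ = ⁅x, e⁆ * ⁅x, f⁆ := by
  have h1 : e * ⁅x, f⁆ * e⁻¹ = ⁅x, f⁆ := by rw [← h e, mul_inv_cancel_right]
  calc ⁅x, e * f⁆ = ⁅x, e⁆ * (e * ⁅x, f⁆ * e⁻¹) := by simp only [commutatorElement_def]; group
    _ = _ := by rw [h1]

/-- The Frattini quotient data of two opposite transvections. -/
structure Transv (p : ℕ) (G : Type*) [Group G] (v w : G) (a b : MulAut G) : Prop where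
  pG : IsPGroup p G
  idx : (frattini G).index = p ^ 2
  gen : Subgroup.closure {v, w} = ⊤
  av : v⁻¹ * a v ∈ frattini G
  aw : (w * v)⁻¹ * a w ∈ frattini G
  bw : w⁻¹ * b w ∈ frattini G
  bv : (v * w⁻¹)⁻¹ * b v ∈ frattini G
  apow : a ^ p ∈ (MulAut.conj (G := G)).range
  bpow : b ^ p ∈ (MulAut.conj (G := G)).range

variable [Finite G] {p : ℕ} [hp : Fact p.Prime] {v w : G} {a b : MulAut G}

/-- In an abelian group of exponent dividing `p ^ 2` a transvection of order `p` forces `v ^ p = 1`. -/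
theorem pow_eq_one_of_unipotent {B : Type*} [CommGroup B] (hp5 : 5 ≤ p)
    (hB : ∀ x : B, x ^ (p ^ 2) = 1) {v w : B} (hgen : ∀ x, ∃ i j : ℤ, v ^ i * w ^ j = x)
    (α : B →* B) {z1 z2 : B} (h1 : α v = v * z1 ^ p) (h2 : α w = w * v * z2 ^ p)
    (h3 : (α : B → B)^[p] w = w) : v ^ p = 1 := by
  have hpp := hp.out
  obtain ⟨δ, hδ⟩ : ∃ δ : B →* B, ∀ x, δ x = x⁻¹ * α x :=
    ⟨MonoidHom.mk' (fun x => x⁻¹ * α x) fun x y => by
      rw [map_mul, mul_inv, mul_mul_mul_comm], fun x => rfl⟩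
  have hα : ∀ x, α x = x * δ x := fun x => by rw [hδ, mul_inv_cancel_left]
  have hsq : ∀ y : B, (y ^ p) ^ p = 1 := fun y => by rw [← pow_mul, ← pow_two]; exact hB y
  have hT : ∀ x, ∃ (i : ℤ) (z : B), δ x = v ^ i * z ^ p := fun x => by
    obtain ⟨i, j, rfl⟩ := hgen x
    refine ⟨j, z1 ^ i * z2 ^ j, ?_⟩
    rw [map_mul, map_zpow, map_zpow, hδ, hδ, h1, h2, inv_mul_cancel_left, mul_assoc w,
      inv_mul_cancel_left, mul_pow, mul_zpow, mul_left_comm]
    congr 1
    rw [← zpow_natCast, ← zpow_natCast, ← zpow_natCast, ← zpow_natCast, ← zpow_mul, ← zpow_mul,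
      ← zpow_mul, ← zpow_mul, mul_comm (p : ℤ) i, mul_comm (p : ℤ) j]
  obtain ⟨e1, he1⟩ : ∃ e1, e1 = δ w := ⟨_, rfl⟩
  obtain ⟨e2, he2⟩ : ∃ e2, e2 = δ e1 := ⟨_, rfl⟩
  obtain ⟨e3, he3⟩ : ∃ e3, e3 = δ e2 := ⟨_, rfl⟩
  have he1' : e1 = v * z2 ^ p := by rw [he1, hδ, h2, mul_assoc w, inv_mul_cancel_left]
  have hv1 : δ v = z1 ^ p := by rw [hδ, h1, inv_mul_cancel_left]
  have he2' : e2 = (z1 * δ z2) ^ p := by rw [he2, he1', map_mul, map_pow, hv1, mul_pow]
  obtain ⟨i, z, hiz⟩ := hT (z1 * δ z2)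
  have he3' : e3 = (v ^ p) ^ i := by
    rw [he3, he2', map_pow, hiz, mul_pow, hsq, mul_one, ← zpow_natCast, ← zpow_natCast,
      ← zpow_mul, ← zpow_mul, mul_comm i]
  have he4 : δ e3 = 1 := by rw [he3', map_zpow, map_pow, hv1, hsq, one_zpow]
  have e2p : e2 ^ p = 1 := by rw [he2', hsq]
  have e3p : e3 ^ p = 1 := by
    rw [he3', ← zpow_natCast, ← zpow_mul, mul_comm, zpow_mul, zpow_natCast, hsq, one_zpow]
  have hit : ∀ n : ℕ, (α : B → B)^[n] w =
      w * e1 ^ n * e2 ^ n.choose 2 * e3 ^ n.choose 3 := by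
    intro n
    induction n with
    | zero => simp
    | succ n ih =>
      rw [Function.iterate_succ_apply', ih, map_mul, map_mul, map_mul, map_pow, map_pow, map_pow,
        hα w, hα e1, hα e2, hα e3, ← he1, ← he2, ← he3, he4, mul_one,
        Nat.choose_succ_succ' n 1, Nat.choose_succ_succ' n 2, Nat.choose_one_right, mul_pow,
        mul_pow, pow_add, pow_add, pow_succ]
      simp only [Nat.reduceAdd, pow_add, pow_one, pow_zero, one_mul, mul_comm, mul_assoc,
        mul_left_comm]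
  obtain ⟨c2, hc2⟩ := hpp.dvd_choose_self (show 2 ≠ 0 by norm_num) (by omega)
  obtain ⟨c3, hc3⟩ := hpp.dvd_choose_self (show 3 ≠ 0 by norm_num) (by omega)
  rw [hit, hc2, hc3, pow_mul e2, pow_mul e3, e2p, e3p, one_pow, one_pow, mul_one, mul_one,
    mul_eq_left, he1', mul_pow, hsq, mul_one] at h3
  exact h3

namespace Transv

variable (h : Transv p G v w a b)

include h

theorem nilpotent : Group.IsNilpotent G := h.pG.isNilpotent

theorem comm_frattini (x y : G) : ⁅x, y⁆ ∈ frattini G :=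
  CfsgLib.HSub.commutator_le_frattini h.pG
    (Subgroup.commutator_mem_commutator (Subgroup.mem_top x) (Subgroup.mem_top y))

theorem gam_one_le : gam G 1 ≤ frattini G := by
  rw [show gam G 1 = commutator G from Subgroup.top_lowerCentralSeries_one]
  exact CfsgLib.HSub.commutator_le_frattini h.pG

theorem pow_frattini (x : G) : x ^ p ∈ frattini G := CfsgLib.OddOmega.pow_mem_frattini h.pG x

omit h in
/-- Exponent data of a pair of integers modulo a normal subgroup with abelian quotient. -/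
theorem exists_zpow {Q : Type*} [CommGroup Q] {π : G →* Q} (hπ : Function.Surjective π)
    (hgen : Subgroup.closure {v, w} = ⊤) (x : Q) : ∃ i j : ℤ, π v ^ i * π w ^ j = x := by
  refine Subgroup.mem_closure_pair.1 ?_
  rw [show ({π v, π w} : Set Q) = π '' {v, w} by rw [Set.image_pair],
    ← MonoidHom.map_closure, hgen]
  obtain ⟨y, rfl⟩ := hπ x
  exact ⟨y, Subgroup.mem_top _, rfl⟩

theorem exists_frattini_form (x : G) : ∃ i j : ℤ, (v ^ i * w ^ j)⁻¹ * x ∈ frattini G := by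
  letI : CommGroup (G ⧸ frattini G) :=
    { (inferInstance : Group (G ⧸ frattini G)) with
      mul_comm := fun a b => by
        obtain ⟨x, rfl⟩ := QuotientGroup.mk'_surjective (frattini G) a
        obtain ⟨y, rfl⟩ := QuotientGroup.mk'_surjective (frattini G) b
        rw [← commutatorElement_eq_one_iff_mul_comm, ← map_commutatorElement,
          QuotientGroup.mk'_apply, QuotientGroup.eq_one_iff]
        exact h.comm_frattini x y }
  obtain ⟨i, j, hij⟩ := exists_zpow (QuotientGroup.mk'_surjective (frattini G)) h.gen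
    (QuotientGroup.mk' (frattini G) x)
  refine ⟨i, j, ?_⟩
  rw [← QuotientGroup.eq_one_iff, ← QuotientGroup.mk'_apply, map_mul, map_inv, map_mul, map_zpow,
    map_zpow, hij, inv_mul_cancel]

omit h in
theorem mem_of_zpow {W : Subgroup G} {x : G} {i : ℤ} (hx : x ^ p ∈ W) (hi : x ^ i ∈ W)
    (hd : ¬ (p : ℤ) ∣ i) : x ∈ W := by
  have hco : IsCoprime (p : ℤ) i := (Nat.prime_iff_prime_int.1 hp.out).coprime_iff_not_dvd.2 hd
  obtain ⟨r, s, hrs⟩ := hco
  have h1 := W.mul_mem (W.zpow_mem hx r) (W.zpow_mem hi s)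
  rwa [← zpow_natCast, ← zpow_mul, ← zpow_mul, ← zpow_add, mul_comm (p : ℤ) r, mul_comm i s, hrs,
    zpow_one] at h1

/-- A proper subgroup over the Frattini subgroup is moved by one of the transvections. -/
theorem irred {W : Subgroup G} (hW : frattini G ≤ W) (ha : ∀ x ∈ W, a x ∈ W)
    (hb : ∀ x ∈ W, b x ∈ W) {x : G} (hx : x ∈ W) (hxn : x ∉ frattini G) : W = ⊤ := by
  obtain ⟨i, j, hij⟩ := h.exists_frattini_form x
  have hx' : v ^ i * w ^ j ∈ W := by
    have := W.mul_mem hx (W.inv_mem (hW hij))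
    rwa [mul_inv_rev, inv_inv, mul_inv_cancel_left] at this
  have hvW : v ∈ W := by
    by_cases hj : (p : ℤ) ∣ j
    · obtain ⟨k, rfl⟩ := hj
      have hwk : w ^ ((p : ℤ) * k) ∈ frattini G := by
        rw [zpow_mul, zpow_natCast]; exact Subgroup.zpow_mem _ (h.pow_frattini w) k
      refine mem_of_zpow (hW (h.pow_frattini v)) ?_ (i := i) fun hi => hxn ?_
      · have := W.mul_mem hx' (W.inv_mem (hW hwk))
        rwa [mul_inv_cancel_right] at this
      · obtain ⟨l, rfl⟩ := hi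
        have hvl : v ^ ((p : ℤ) * l) ∈ frattini G := by
          rw [zpow_mul, zpow_natCast]; exact Subgroup.zpow_mem _ (h.pow_frattini v) l
        have := Subgroup.mul_mem _ (Subgroup.mul_mem _ hvl hwk) hij
        rwa [mul_inv_cancel_left] at this
    · refine mem_of_zpow (hW (h.pow_frattini v)) ?_ hj
      obtain ⟨π, hπ⟩ : ∃ π, π = QuotientGroup.mk' (frattini G) := ⟨_, rfl⟩
      have hm : ∀ {y}, π y = 1 ↔ y ∈ frattini G := fun {y} => hπ ▸ QuotientGroup.eq_one_iff y
      have hc : ∀ y z, Commute (π y) (π z) := fun y z => by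
        rw [← commutatorElement_eq_one_iff_commute, ← map_commutatorElement, hm]
        exact h.comm_frattini y z
      have h1 : π (a v) = π v := by
        have := hm.2 h.av
        rw [map_mul, map_inv, inv_mul_eq_one] at this
        exact this.symm
      have h2 : π (a w) = π w * π v := by
        have := hm.2 h.aw
        rw [map_mul, map_inv, inv_mul_eq_one, map_mul] at this
        exact this.symm
      have h3 : (v ^ i * w ^ j)⁻¹ * a (v ^ i * w ^ j) * (v ^ j)⁻¹ ∈ frattini G := by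
        rw [← hm]
        simp only [map_mul, map_inv, map_zpow, h1, h2, (hc w v).mul_zpow]
        rw [← mul_assoc (π v ^ i), inv_mul_cancel_left, mul_inv_cancel]
      have h4 := W.mul_mem (W.inv_mem (hW h3)) (W.mul_mem (W.inv_mem hx') (ha _ hx'))
      rwa [mul_inv_rev, inv_inv, mul_assoc, inv_mul_cancel, mul_one] at h4
  have hwW : w ∈ W := by
    have h1 := W.mul_mem (hb v hvW) (W.inv_mem (hW h.bv))
    rw [mul_inv_rev, inv_inv, mul_inv_cancel_left] at h1
    have h2 := W.inv_mem (W.mul_mem (W.inv_mem hvW) h1)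
    rwa [inv_mul_cancel_left, inv_inv] at h2
  refine top_le_iff.1 ?_
  rw [← h.gen, Subgroup.closure_le]
  rintro y (rfl | rfl) <;> assumption

theorem frattini_ne_top : frattini G ≠ ⊤ := fun e => by
  have := h.idx
  rw [e, Subgroup.index_top] at this
  exact absurd this (Nat.one_lt_pow two_ne_zero hp.out.one_lt).ne

/-- The Frattini subgroup is the derived subgroup. -/
theorem frattini_eq (hp5 : 5 ≤ p) : frattini G = gam G 1 := by
  refine le_antisymm ?_ h.gam_one_le
  letI : CommGroup (G ⧸ gam G 1) :=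
    { (inferInstance : Group (G ⧸ gam G 1)) with
      mul_comm := fun a b => by
        obtain ⟨x, rfl⟩ := QuotientGroup.mk'_surjective (gam G 1) a
        obtain ⟨y, rfl⟩ := QuotientGroup.mk'_surjective (gam G 1) b
        rw [← commutatorElement_eq_one_iff_mul_comm, ← map_commutatorElement,
          QuotientGroup.mk'_apply, QuotientGroup.eq_one_iff]
        exact comm_mem_gam (n := 0) (Subgroup.mem_top x) y }
  obtain ⟨π, hπ⟩ : ∃ π, π = QuotientGroup.mk' (gam G 1) := ⟨_, rfl⟩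
  have hπs : Function.Surjective π := hπ ▸ QuotientGroup.mk'_surjective _
  have hπ1 : ∀ {y}, π y = 1 ↔ y ∈ gam G 1 := fun {y} => hπ ▸ QuotientGroup.eq_one_iff y
  obtain ⟨P, hP⟩ : ∃ P : Subgroup (G ⧸ gam G 1),
      P = (powMonoidHom p : G ⧸ gam G 1 →* G ⧸ gam G 1).range := ⟨_, rfl⟩
  obtain ⟨R, hR⟩ : ∃ R : Subgroup (G ⧸ gam G 1),
      R = (powMonoidHom (p ^ 2) : G ⧸ gam G 1 →* G ⧸ gam G 1).range := ⟨_, rfl⟩
  -- the Frattini subgroup consists of powers modulo the derived subgroup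
  have hfr : ∀ y ∈ frattini G, π y ∈ P := fun y hy => by
    haveI : (P.comap π).Normal := inferInstance
    refine CfsgLib.Critical.frattini_le_of_elementary (p := p) (P.comap π) ?_
      (fun x => by rw [Subgroup.mem_comap, map_pow, hP]; exact ⟨π x, rfl⟩) hy
    rw [← show gam G 1 = commutator G from Subgroup.top_lowerCentralSeries_one]
    intro x hx
    rw [Subgroup.mem_comap, hπ1.2 hx]
    exact one_mem _
  -- the automorphisms on the quotient
  have hdesc : ∀ α : MulAut G, ∃ f : G ⧸ gam G 1 →* G ⧸ gam G 1, ∀ x, f (π x) = π (α x) := fun α => by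
    refine ⟨π.liftOfSurjective hπs ⟨π.comp α.toMonoidHom, fun x hx => ?_⟩, fun x => ?_⟩
    · exact MonoidHom.mem_ker.2 (hπ1.2 (gam_map α 1 (hπ1.1 (MonoidHom.mem_ker.1 hx))))
    · exact π.liftOfRightInverse_comp_apply _ _ _ x
  obtain ⟨σ, hσ⟩ : ∃ σ, σ = QuotientGroup.mk' R := ⟨_, rfl⟩
  have hσs : Function.Surjective σ := hσ ▸ QuotientGroup.mk'_surjective _
  have hdesc2 : ∀ α : MulAut G, ∃ f : (G ⧸ gam G 1) ⧸ R →* (G ⧸ gam G 1) ⧸ R,
      ∀ x, f (σ (π x)) = σ (π (α x)) := fun α => by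
    obtain ⟨f, hf⟩ := hdesc α
    refine ⟨σ.liftOfSurjective hσs ⟨σ.comp f, fun x hx => ?_⟩, fun x => ?_⟩
    · rw [hσ, QuotientGroup.ker_mk', hR] at hx
      obtain ⟨y, rfl⟩ := hx
      rw [MonoidHom.mem_ker, MonoidHom.comp_apply, powMonoidHom_apply, map_pow, hσ,
        QuotientGroup.mk'_apply, QuotientGroup.eq_one_iff, hR]
      exact ⟨f y, rfl⟩
    · rw [← hf]
      exact σ.liftOfRightInverse_comp_apply _ _ _ (π x)
  obtain ⟨f, hf⟩ := hdesc2 a
  obtain ⟨g, hg⟩ := hdesc2 b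
  have hB : ∀ x : (G ⧸ gam G 1) ⧸ R, x ^ (p ^ 2) = 1 := fun x => by
    obtain ⟨y, rfl⟩ := hσs x
    rw [← map_pow, hσ, QuotientGroup.mk'_apply, QuotientGroup.eq_one_iff, hR]
    exact ⟨y, rfl⟩
  have hz : ∀ {x y : G}, x⁻¹ * y ∈ frattini G → ∃ z, σ (π y) = σ (π x) * z ^ p := fun {x y} hxy => by
    obtain ⟨z, hz⟩ := hP ▸ hfr _ hxy
    refine ⟨σ z, ?_⟩
    rw [← map_pow σ, ← map_mul σ, show z ^ p = π (x⁻¹ * y) from hz, ← map_mul π,
      mul_inv_cancel_left]
  have hgen : ∀ x : (G ⧸ gam G 1) ⧸ R, ∃ i j : ℤ, σ (π v) ^ i * σ (π w) ^ j = x :=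
    exists_zpow (π := σ.comp π) (hσs.comp hπs) h.gen
  have hit : (f : _ → _)^[p] (σ (π w)) = σ (π w) := by
    have h1 : ∀ n : ℕ, (f : _ → _)^[n] (σ (π w)) = σ (π ((a ^ n) w)) := by
      intro n
      induction n with
      | zero => rfl
      | succ n ih => rw [Function.iterate_succ_apply', ih, hf, pow_succ', MulAut.mul_apply]
    obtain ⟨c, hc⟩ := h.apow
    rw [h1, ← hc, MulAut.conj_apply]
    simp only [map_mul, map_inv, mul_inv_cancel_comm]
  obtain ⟨z1, h1⟩ := hz h.av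
  obtain ⟨z2, h2⟩ := hz h.aw
  rw [← hf] at h1 h2
  rw [map_mul, map_mul] at h2
  have hvp : σ (π v) ^ p = 1 := pow_eq_one_of_unipotent hp5 hB hgen f h1 h2 hit
  obtain ⟨z3, h3⟩ := hz h.bv
  have hwp : σ (π w) ^ p = 1 := by
    have h4 := congrArg (g : _ → _) hvp
    rw [map_pow, hg, h3, map_mul, map_mul, map_inv, map_inv, map_one, mul_pow, mul_pow, hvp, one_mul,
      inv_pow, ← pow_mul, ← pow_two, hB, mul_one, inv_eq_one] at h4
    exact h4
  -- powers are higher powers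
  have hstep : ∀ x : G ⧸ gam G 1, ∃ y, x ^ p = (y ^ p) ^ p := fun x => by
    have h5 : σ (x ^ p) = 1 := by
      obtain ⟨i, j, hij⟩ := hgen (σ x)
      rw [map_pow, ← hij, mul_pow, ← zpow_natCast, ← zpow_natCast, ← zpow_mul, ← zpow_mul,
        mul_comm i, mul_comm j, zpow_mul, zpow_mul, zpow_natCast, zpow_natCast, hvp, hwp,
        one_zpow, one_zpow, mul_one]
    rw [hσ, QuotientGroup.mk'_apply, QuotientGroup.eq_one_iff, hR] at h5
    obtain ⟨y, hy⟩ := h5
    exact ⟨y, by rw [← pow_mul, ← pow_two]; exact hy.symm⟩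
  have hexp : ∀ x : G ⧸ gam G 1, x ^ p = 1 := fun x => by
    have hk : ∀ k : ℕ, ∀ x : G ⧸ gam G 1, ∃ y, x ^ p = y ^ (p ^ (k + 1)) := by
      intro k
      induction k with
      | zero => exact fun x => ⟨x, by rw [pow_one]⟩
      | succ k ih =>
        intro x
        obtain ⟨y, hy⟩ := hstep x
        obtain ⟨z, hz'⟩ := ih y
        exact ⟨z, by rw [hy, hz', ← pow_mul, ← pow_succ]⟩
    obtain ⟨N, hN⟩ := (h.pG.to_quotient (gam G 1)).exists_card_eq
    obtain ⟨y, hy⟩ := hk N x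
    rw [hy, pow_succ, pow_mul, ← hN, pow_card_eq_one', one_pow]
  intro y hy
  obtain ⟨z, hz'⟩ := hP ▸ hfr y hy
  exact hπ1.1 (hz'.symm.trans (hexp z))

theorem center_mul {Q : Type*} [Group Q] {x y : Q} (hx : ∀ g, Commute x g) (hy : ∀ g, Commute y g)
    (g : Q) : Commute (x * y) g := (hx g).mul_left (hy g)

/-- The image of the derived subgroup is generated by the commutator of the generators. -/
theorem gam_one_mod : ∀ x ∈ gam G 1, ∃ i : ℤ, (⁅v, w⁆ ^ i)⁻¹ * x ∈ gam G 2 := by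
  obtain ⟨π, hπ⟩ : ∃ π, π = QuotientGroup.mk' (gam G 2) := ⟨_, rfl⟩
  have hπs : Function.Surjective π := hπ ▸ QuotientGroup.mk'_surjective _
  have hπ1 : ∀ {y}, π y = 1 ↔ y ∈ gam G 2 := fun {y} => hπ ▸ QuotientGroup.eq_one_iff y
  have hz : ∀ g, Commute (π ⁅v, w⁆) g := fun g => by
    obtain ⟨y, rfl⟩ := hπs g
    rw [← commutatorElement_eq_one_iff_commute, ← map_commutatorElement, hπ1]
    exact comm_mem_gam (comm_mem_gam (n := 0) (Subgroup.mem_top v) w) y
  obtain ⟨C, hC⟩ : ∃ C, C = Subgroup.zpowers (π ⁅v, w⁆) := ⟨_, rfl⟩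
  haveI : C.Normal := ⟨fun x hx g => by
    obtain ⟨i, rfl⟩ := Subgroup.mem_zpowers_iff.1 (hC ▸ hx)
    rw [← ((hz g).zpow_left i).eq, mul_inv_cancel_right]
    exact hC ▸ Subgroup.zpow_mem_zpowers _ i⟩
  obtain ⟨τ, hτ⟩ : ∃ τ, τ = (QuotientGroup.mk' C).comp π := ⟨_, rfl⟩
  have hτ1 : ∀ {y}, τ y = 1 ↔ π y ∈ C := fun {y} => hτ ▸ QuotientGroup.eq_one_iff (π y)
  have hvw : τ v * τ w = τ w * τ v := by
    rw [← commutatorElement_eq_one_iff_mul_comm, ← map_commutatorElement, hτ1, hC]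
    exact Subgroup.mem_zpowers _
  have hcl : ∀ x y, τ x * τ y = τ y * τ x := by
    have hmem : ∀ x, τ x ∈ Subgroup.closure {τ v, τ w} := fun x => by
      rw [show ({τ v, τ w} : Set _) = τ '' {v, w} by rw [Set.image_pair],
        ← MonoidHom.map_closure, h.gen]
      exact ⟨x, Subgroup.mem_top _, rfl⟩
    intro x y
    refine CfsgLib.RankThree.closure_comm ?_ (hmem x) (hmem y)
    rintro s (rfl | rfl) t (rfl | rfl) <;> first | rfl | exact hvw | exact hvw.symm
  intro x hx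
  have hx' : τ x = 1 := by
    refine (show gam G 1 ≤ τ.ker from ?_) hx
    show ⁅gam G 0, (⊤ : Subgroup G)⁆ ≤ _
    rw [Subgroup.commutator_le]
    intro g _ f _
    rw [MonoidHom.mem_ker, map_commutatorElement, commutatorElement_eq_one_iff_mul_comm]
    exact hcl g f
  obtain ⟨i, hi⟩ := Subgroup.mem_zpowers_iff.1 (hC ▸ hτ1.1 hx')
  refine ⟨i, hπ1.1 ?_⟩
  rw [map_mul, map_inv, map_zpow, hi, inv_mul_cancel]

variable (hp5 : 5 ≤ p)

include hp5

theorem pow_comm_mem : ⁅v, w⁆ ^ p ∈ gam G 2 := by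
  obtain ⟨π, hπ⟩ : ∃ π, π = QuotientGroup.mk' (gam G 2) := ⟨_, rfl⟩
  have hπs : Function.Surjective π := hπ ▸ QuotientGroup.mk'_surjective _
  have hπ1 : ∀ {y}, π y = 1 ↔ y ∈ gam G 2 := fun {y} => hπ ▸ QuotientGroup.eq_one_iff y
  have hz : ∀ x ∈ gam G 1, ∀ g, Commute (π x) g := fun x hx g => by
    obtain ⟨y, rfl⟩ := hπs g
    rw [← commutatorElement_eq_one_iff_commute, ← map_commutatorElement, hπ1]
    exact comm_mem_gam hx y
  have hc : ∀ n : ℕ, π ⁅v ^ n, w⁆ = π ⁅v, w⁆ ^ n := by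
    intro n
    induction n with
    | zero => rw [pow_zero, pow_zero, commutatorElement_one_left, map_one]
    | succ n ih =>
      rw [pow_succ', map_commutatorElement, map_mul, commutatorElement_mul_left_eq_conj_mul, ←
        map_commutatorElement π (v ^ n) w, ← map_commutatorElement π v w, ih,
        ← ((hz _ (comm_mem_gam (n := 0) (Subgroup.mem_top v) w) (π v)).pow_left n).eq,
        mul_inv_cancel_right, pow_succ]
  have h1 : π ⁅v ^ p, w⁆ = 1 := by
    rw [hπ1]
    exact comm_mem_gam (h.frattini_eq hp5 ▸ h.pow_frattini v) w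
  rwa [hc, ← map_pow, hπ1] at h1

/-- The transvections fix the commutator of the generators modulo the next term. -/
theorem fix_comm {α : MulAut G} (hα : α = a ∨ α = b) : ⁅v, w⁆⁻¹ * α ⁅v, w⁆ ∈ gam G 2 := by
  obtain ⟨π, hπ⟩ : ∃ π, π = QuotientGroup.mk' (gam G 2) := ⟨_, rfl⟩
  have hπs : Function.Surjective π := hπ ▸ QuotientGroup.mk'_surjective _
  have hπ1 : ∀ {y}, π y = 1 ↔ y ∈ gam G 2 := fun {y} => hπ ▸ QuotientGroup.eq_one_iff y
  have hz : ∀ x ∈ frattini G, ∀ g, Commute (π x) g := fun x hx g => by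
    obtain ⟨y, rfl⟩ := hπs g
    rw [← commutatorElement_eq_one_iff_commute, ← map_commutatorElement, hπ1]
    exact comm_mem_gam (h.frattini_eq hp5 ▸ hx) y
  have key : ∀ {z z' x y : G}, x⁻¹ * z ∈ frattini G → y⁻¹ * z' ∈ frattini G →
      π ⁅z, z'⁆ = ⁅π x, π y⁆ := by
    intro z z' x y hx hy
    obtain ⟨s, hs⟩ : ∃ s, s = π (x⁻¹ * z) := ⟨_, rfl⟩
    obtain ⟨t, ht⟩ : ∃ t, t = π (y⁻¹ * z') := ⟨_, rfl⟩
    have e1 : π z = π x * s := by rw [hs, ← map_mul, mul_inv_cancel_left]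
    have e2 : π z' = π y * t := by rw [ht, ← map_mul, mul_inv_cancel_left]
    have cs : ∀ g, Commute s g := hs ▸ hz _ hx
    have ct : ∀ g, Commute t g := ht ▸ hz _ hy
    have e3 : ⁅s, π y * t⁆ = 1 := commutatorElement_eq_one_iff_commute.2 (cs _)
    have e4 : ⁅π x, t⁆ = 1 := commutatorElement_eq_one_iff_commute.2 (ct _).symm
    rw [map_commutatorElement, e1, e2, commutatorElement_mul_left_eq_conj_mul, e3, mul_one, mul_inv_cancel,
      one_mul, commutatorElement_mul_right_eq_mul_conj, e4, mul_one, mul_inv_cancel_right]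
  rw [← hπ1, map_mul, map_inv, map_commutatorElement α, inv_mul_eq_one, map_commutatorElement π]
  rcases hα with rfl | rfl
  · rw [key (x := v) (y := w * v) h.av h.aw, map_mul]
    simp only [commutatorElement_def]
    group
  · rw [key (x := v * w⁻¹) (y := w) h.bv h.bw, map_mul, map_inv]
    simp only [commutatorElement_def]
    group

/-- The third layer. -/
theorem layer_three : gam G 2 = ⊥ ∨
    ((∀ e, ⁅⁅v, w⁆, e⁆ ∈ gam G 3 → e ∈ frattini G) ∧ (gam G 3).relIndex (gam G 2) = p ^ 2) := by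
  haveI := h.nilpotent
  have hpp := hp.out
  obtain ⟨c, hc⟩ : ∃ c, c = ⁅v, w⁆ := ⟨_, rfl⟩
  obtain ⟨π, hπ⟩ : ∃ π, π = QuotientGroup.mk' (gam G 3) := ⟨_, rfl⟩
  have hπs : Function.Surjective π := hπ ▸ QuotientGroup.mk'_surjective _
  have hπ1 : ∀ {y}, π y = 1 ↔ y ∈ gam G 3 := fun {y} => hπ ▸ QuotientGroup.eq_one_iff y
  have hc1 : c ∈ gam G 1 := hc ▸ comm_mem_gam (n := 0) (Subgroup.mem_top v) w
  have hz : ∀ x ∈ gam G 2, ∀ g, Commute (π x) g := fun x hx g => by
    obtain ⟨y, rfl⟩ := hπs g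
    rw [← commutatorElement_eq_one_iff_commute, ← map_commutatorElement, hπ1]
    exact comm_mem_gam hx y
  obtain ⟨φ, hφ⟩ : ∃ φ : G →* G ⧸ gam G 3, ∀ e, φ e = π ⁅c, e⁆ :=
    ⟨MonoidHom.mk' (fun e => π ⁅c, e⁆) fun e f => by
      simp only [map_commutatorElement, map_mul]
      refine comm_mul_right _ _ fun g => ?_
      rw [← map_commutatorElement]
      exact (hz _ (comm_mem_gam hc1 f) g).eq, fun e => rfl⟩
  have hdec : ∀ x ∈ gam G 1, ∃ (i : ℤ), ∃ k ∈ gam G 2, x = c ^ i * k := fun x hx => by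
    obtain ⟨i, hi⟩ := h.gam_one_mod x hx
    exact ⟨i, _, hi, by rw [hc, mul_inv_cancel_left]⟩
  have hker : frattini G ≤ φ.ker := fun x hx => by
    rw [h.frattini_eq hp5] at hx
    obtain ⟨i, k, hk, rfl⟩ := hdec x hx
    rw [MonoidHom.mem_ker, hφ, map_commutatorElement, map_mul, map_zpow,
      commutatorElement_eq_one_iff_commute]
    exact ((Commute.refl (π c)).zpow_right i).mul_right (hz k hk _).symm
  -- the image is the whole layer
  have hran : φ.range = (gam G 2).map π := by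
    refine le_antisymm ?_ ?_
    · rintro _ ⟨e, rfl⟩
      exact ⟨_, comm_mem_gam hc1 e, (hφ e).symm⟩
    · refine Subgroup.map_le_iff_le_comap.2 ?_
      show ⁅gam G 1, (⊤ : Subgroup G)⁆ ≤ _
      rw [Subgroup.commutator_le]
      intro x hx e _
      obtain ⟨i, k, hk, rfl⟩ := hdec x hx
      have h1 : ∀ n : ℤ, ⁅π c ^ n, π e⁆ = ⁅π c, π e⁆ ^ n := by
        intro n
        have hcc : Commute (π c) ⁅π c, π e⁆ := by
          rw [← map_commutatorElement]; exact (hz _ (comm_mem_gam hc1 e) _).symm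
        have h2 : π e * π c * (π e)⁻¹ = ⁅π c, π e⁆⁻¹ * π c := by
          simp only [commutatorElement_def]; group
        calc ⁅π c ^ n, π e⁆ = π c ^ n * (π e * π c * (π e)⁻¹) ^ (-n) := by
              rw [conj_zpow]; simp only [commutatorElement_def]; group
          _ = _ := by
              rw [h2, (hcc.symm.inv_left).mul_zpow, inv_zpow', neg_neg,
                (hcc.symm.zpow_zpow n (-n)).eq, ← mul_assoc, ← zpow_add, add_neg_cancel, zpow_zero,
                one_mul]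
      rw [Subgroup.mem_comap, map_commutatorElement, map_mul, map_zpow, commutatorElement_mul_left_eq_conj_mul,
        commutatorElement_eq_one_iff_commute.2 (hz k hk (π e)), mul_one, mul_inv_cancel, one_mul, h1,
        ← map_commutatorElement, ← hφ]
      exact Subgroup.zpow_mem _ (MonoidHom.mem_range.2 ⟨e, rfl⟩) i
  have hinv : ∀ α : MulAut G, (α = a ∨ α = b) → ∀ x ∈ φ.ker, α x ∈ φ.ker := by
    intro α hα x hx
    rw [MonoidHom.mem_ker, hφ, hπ1] at hx ⊢
    have h1 := gam_map α 3 hx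
    rw [map_commutatorElement, ← hπ1, map_commutatorElement] at h1
    have h2 : π (α c) = π c * π (c⁻¹ * α c) := by rw [← map_mul, mul_inv_cancel_left]
    rw [← hπ1, map_commutatorElement]
    rw [h2, commutatorElement_mul_left_eq_conj_mul, commutatorElement_eq_one_iff_commute.2
      (hz _ (hc ▸ h.fix_comm hp5 hα) _), mul_one, mul_inv_cancel, one_mul] at h1
    exact h1
  by_cases hcase : ∀ x ∈ φ.ker, x ∈ frattini G
  · refine Or.inr ⟨fun e he => hcase e ?_, ?_⟩
    · rw [MonoidHom.mem_ker, hφ, hπ1, hc]; exact he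
    · have h1 : φ.ker = frattini G := le_antisymm hcase hker
      have h2 : Nat.card ((gam G 2).map π) = p ^ 2 := by
        rw [← hran, ← Subgroup.index_ker, h1, h.idx]
      rw [← h2, ← Subgroup.relIndex_ker, hπ, QuotientGroup.ker_mk']
  · push Not at hcase
    obtain ⟨x, hx, hxn⟩ := hcase
    have htop := h.irred hker (fun y hy => hinv a (Or.inl rfl) y hy)
      (fun y hy => hinv b (Or.inr rfl) y hy) hx hxn
    refine Or.inl (eq_bot_of_stable (le_antisymm ?_ ((⊤ : Subgroup G).lowerCentralSeries_antitone (by omega))))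
    intro y hy
    have h1 : π y ∈ φ.range := hran ▸ ⟨y, hy, rfl⟩
    obtain ⟨e, he⟩ := h1
    rw [← hπ1, ← he, ← MonoidHom.mem_ker, htop]
    exact Subgroup.mem_top e

/-- The order when the third layer is trivial. -/
theorem card_le (h2 : gam G 2 = ⊥) : Nat.card G ≤ p ^ 3 := by
  have hc : Nat.card (frattini G) ≤ p := by
    have hcp : ⁅v, w⁆ ^ p = 1 := Subgroup.mem_bot.1 (h2 ▸ h.pow_comm_mem hp5)
    refine le_trans (Subgroup.card_le_of_le (fun x hx => ?_) : _ ≤ Nat.card (Subgroup.zpowers ⁅v, w⁆)) ?_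
    · obtain ⟨i, hi⟩ := h.gam_one_mod x (h.frattini_eq hp5 ▸ hx)
      rw [h2, Subgroup.mem_bot, inv_mul_eq_one] at hi
      exact hi ▸ Subgroup.zpow_mem_zpowers _ i
    · rw [Nat.card_zpowers]
      exact orderOf_le_of_pow_eq_one hp.out.pos hcp
  rw [← (frattini G).index_mul_card, h.idx, pow_succ p 2]
  exact Nat.mul_le_mul_left _ hc

/-- The derived layer has order exactly `p` when the group is larger. -/
theorem relIndex_one (h2 : gam G 2 ≠ ⊥) : (gam G 2).relIndex (gam G 1) = p := by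
  obtain ⟨π, hπ⟩ : ∃ π, π = QuotientGroup.mk' (gam G 2) := ⟨_, rfl⟩
  have hπ1 : ∀ {y}, π y = 1 ↔ y ∈ gam G 2 := fun {y} => hπ ▸ QuotientGroup.eq_one_iff y
  have hne : π ⁅v, w⁆ ≠ 1 := fun e => by
    haveI := h.nilpotent
    have h1 : gam G 1 = gam G 2 := by
      refine le_antisymm (fun x hx => ?_) ((⊤ : Subgroup G).lowerCentralSeries_antitone (by omega))
      obtain ⟨i, hi⟩ := h.gam_one_mod x hx
      have := Subgroup.mul_mem _ (Subgroup.zpow_mem _ (hπ1.1 e) i) hi
      rwa [mul_inv_cancel_left] at this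
    exact h2 (h1 ▸ eq_bot_of_stable h1)
  have hmap : (gam G 1).map π = Subgroup.zpowers (π ⁅v, w⁆) := by
    refine le_antisymm ?_ (Subgroup.zpowers_le.2 ⟨_, comm_mem_gam (n := 0) (Subgroup.mem_top v) w, rfl⟩)
    rintro _ ⟨x, hx, rfl⟩
    obtain ⟨i, hi⟩ := h.gam_one_mod x hx
    refine ⟨i, ?_⟩
    have := hπ1.2 hi
    rw [map_mul, map_inv, map_zpow, inv_mul_eq_one] at this
    exact this
  have := Subgroup.relIndex_ker (K := gam G 1) π
  rw [hπ, QuotientGroup.ker_mk', ← hπ, hmap, Nat.card_zpowers] at this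
  rw [this]
  exact orderOf_eq_prime (by rw [← map_pow, hπ1]; exact h.pow_comm_mem hp5) hne

/-- In sectional rank three the fourth layer is trivial. -/
theorem gam_three (hsr : Cfsg.SectionalPRankLE p 3 G) (h2 : gam G 2 ≠ ⊥) : gam G 3 = ⊥ := by
  haveI := h.nilpotent
  have hpp := hp.out
  obtain ⟨hinj, hidx⟩ := (h.layer_three hp5).resolve_left h2
  obtain ⟨c, hc⟩ : ∃ c, c = ⁅v, w⁆ := ⟨_, rfl⟩
  rw [← hc] at hinj
  obtain ⟨π, hπ⟩ : ∃ π, π = QuotientGroup.mk' (gam G 4) := ⟨_, rfl⟩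
  have hπs : Function.Surjective π := hπ ▸ QuotientGroup.mk'_surjective _
  have hπ1 : ∀ {y}, π y = 1 ↔ y ∈ gam G 4 := fun {y} => hπ ▸ QuotientGroup.eq_one_iff y
  have hc1 : c ∈ gam G 1 := hc ▸ comm_mem_gam (n := 0) (Subgroup.mem_top v) w
  have hz : ∀ x ∈ gam G 3, ∀ g, Commute (π x) g := fun x hx g => by
    obtain ⟨y, rfl⟩ := hπs g
    rw [← commutatorElement_eq_one_iff_commute, ← map_commutatorElement, hπ1]
    exact comm_mem_gam hx y
  have hdec : ∀ x ∈ gam G 1, ∃ (i : ℤ), ∃ k ∈ gam G 2, x = c ^ i * k := fun x hx => by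
    obtain ⟨i, hi⟩ := h.gam_one_mod x hx
    exact ⟨i, _, hi, by rw [hc, mul_inv_cancel_left]⟩
  obtain ⟨η, hη⟩ : ∃ η : gam G 2 → G →* G ⧸ gam G 4, ∀ z e, η z e = π ⁅(z : G), e⁆ :=
    ⟨fun z => MonoidHom.mk' (fun e => π ⁅(z : G), e⁆) fun e f => by
      simp only [map_commutatorElement, map_mul]
      refine comm_mul_right _ _ fun g => ?_
      rw [← map_commutatorElement]
      exact (hz _ (comm_mem_gam z.2 f) g).eq, fun z e => rfl⟩
  -- the second layer commutes with the first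
  have hηK : ∀ z : gam G 2, ∀ x ∈ gam G 1, η z x = 1 := by
    intro z x hx
    refine (show gam G 1 ≤ (η z).ker from ?_) hx
    show ⁅gam G 0, (⊤ : Subgroup G)⁆ ≤ _
    rw [Subgroup.commutator_le]
    intro g _ f _
    rw [MonoidHom.mem_ker, map_commutatorElement, commutatorElement_eq_one_iff_commute, hη, hη]
    exact hz _ (comm_mem_gam z.2 g) _
  have hcom : ∀ x ∈ gam G 1, ∀ y ∈ gam G 1, Commute (π x) (π y) := by
    have h2c : ∀ z ∈ gam G 2, ∀ x ∈ gam G 1, Commute (π z) (π x) := fun z hz' x hx => by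
      rw [← commutatorElement_eq_one_iff_commute, ← map_commutatorElement, ← hη ⟨z, hz'⟩]
      exact hηK _ x hx
    intro x hx y hy
    obtain ⟨i, k, hk, rfl⟩ := hdec x hx
    obtain ⟨j, l, hl, rfl⟩ := hdec y hy
    simp only [map_mul, map_zpow]
    exact (((Commute.refl (π c)).zpow_zpow i j).mul_right ((h2c l hl c hc1).symm.zpow_left i)).mul_left
      (((h2c k hk c hc1).zpow_right j).mul_right (h2c k hk l ((⊤ : Subgroup G).lowerCentralSeries_antitone (by omega) hl)))
  -- commutators with powers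
  have hpow : ∀ x ∈ gam G 1, ∀ (n : ℤ) (e : G), π ⁅x ^ n, e⁆ = π ⁅x, e⁆ ^ n := fun x hx n e => by
    have hconj : e * x⁻¹ * e⁻¹ ∈ gam G 1 :=
      (inferInstance : (gam G 1).Normal).conj_mem _ (Subgroup.inv_mem _ hx) e
    calc π ⁅x ^ n, e⁆ = π x ^ n * π ((e * x⁻¹ * e⁻¹) ^ n) := by
          rw [← map_zpow, ← map_mul, conj_zpow, inv_zpow, commutatorElement_def]
          simp only [mul_assoc]
      _ = _ := by
          rw [map_zpow, ← (hcom x hx _ hconj).mul_zpow, ← map_mul, commutatorElement_def]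
          simp only [mul_assoc]
  obtain ⟨φ, hφ⟩ : ∃ φ : G → gam G 2, ∀ e, (φ e : G) = ⁅c, e⁆ :=
    ⟨fun e => ⟨_, comm_mem_gam hc1 e⟩, fun e => rfl⟩
  obtain ⟨B, hB⟩ : ∃ B : G → G →* G ⧸ gam G 4, B = fun e => η (φ e) := ⟨_, rfl⟩
  have hBv : ∀ e f, B e f = π ⁅⁅c, e⁆, f⁆ := fun e f => by rw [hB, ← hφ]; exact hη _ _
  have hηmul : ∀ (x y : G), x ∈ gam G 2 → y ∈ gam G 2 → ∀ f, π ⁅x * y, f⁆ = π ⁅x, f⁆ * π ⁅y, f⁆ := by
    intro x y hx hy f
    rw [commutatorElement_mul_left_eq_conj_mul, map_mul, map_mul, map_mul,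
      ← (hz _ (comm_mem_gam hy f) (π x)).eq, map_inv, mul_inv_cancel_right]
    exact (hz _ (comm_mem_gam hy f) _).eq
  have hη3 : ∀ k ∈ gam G 3, ∀ f, π ⁅k, f⁆ = 1 := fun k hk f => hπ1.2 (comm_mem_gam hk f)
  have hBmul : ∀ e f g, B (e * f) g = B e g * B f g := by
    intro e f g
    have h1 : ⁅c, e * f⁆ = ⁅c, e⁆ * ⁅c, f⁆ * (⁅c, f⁆⁻¹ * (e * ⁅c, f⁆ * e⁻¹)) := by
      simp only [commutatorElement_def]; group
    have h3 : ⁅c, f⁆⁻¹ * (e * ⁅c, f⁆ * e⁻¹) ∈ gam G 3 := by
      have := comm_mem_gam (Subgroup.inv_mem _ (comm_mem_gam hc1 f)) e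
      rwa [show ⁅⁅c, f⁆⁻¹, e⁆ = ⁅c, f⁆⁻¹ * (e * ⁅c, f⁆ * e⁻¹) by
        simp only [commutatorElement_def]; group] at this
    rw [hBv, hBv, hBv, h1, hηmul _ _ (Subgroup.mul_mem _ (comm_mem_gam hc1 e) (comm_mem_gam hc1 f))
      ((⊤ : Subgroup G).lowerCentralSeries_antitone (by omega) h3), hη3 _ h3, mul_one,
      hηmul _ _ (comm_mem_gam hc1 e) (comm_mem_gam hc1 f)]
  have hBK : ∀ k ∈ gam G 1, ∀ f, B k f = 1 := fun k hk f => by
    have h1 : π ⁅c, k⁆ = 1 := by
      rw [map_commutatorElement]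
      exact commutatorElement_eq_one_iff_commute.2 (hcom c hc1 k hk)
    rw [hBv, map_commutatorElement, h1, commutatorElement_one_left]
  -- the second layer modulo the third
  obtain ⟨σ, hσ⟩ : ∃ σ, σ = QuotientGroup.mk' (gam G 3) := ⟨_, rfl⟩
  have hσs : Function.Surjective σ := hσ ▸ QuotientGroup.mk'_surjective _
  have hσ1 : ∀ {y}, σ y = 1 ↔ y ∈ gam G 3 := fun {y} => hσ ▸ QuotientGroup.eq_one_iff y
  have hσz : ∀ x ∈ gam G 2, ∀ g, Commute (σ x) g := fun x hx g => by
    obtain ⟨y, rfl⟩ := hσs g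
    rw [← commutatorElement_eq_one_iff_commute, ← map_commutatorElement, hσ1]
    exact comm_mem_gam hx y
  obtain ⟨ψ, hψ⟩ : ∃ ψ : G →* G ⧸ gam G 3, ∀ e, ψ e = σ ⁅c, e⁆ :=
    ⟨MonoidHom.mk' (fun e => σ ⁅c, e⁆) fun e f => by
      simp only [map_commutatorElement, map_mul]
      refine comm_mul_right _ _ fun g => ?_
      rw [← map_commutatorElement]
      exact (hσz _ (comm_mem_gam hc1 f) g).eq, fun e => rfl⟩
  have hker : ∀ e, ψ e = 1 ↔ e ∈ frattini G := fun e => by
    refine ⟨fun he => hinj e (by rwa [hψ, hσ1] at he), fun he => ?_⟩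
    rw [h.frattini_eq hp5] at he
    obtain ⟨i, k, hk, rfl⟩ := hdec e he
    rw [hψ, map_commutatorElement, map_mul, map_zpow, commutatorElement_eq_one_iff_commute]
    exact ((Commute.refl (σ c)).zpow_right i).mul_right (hσz k hk _).symm
  have hle : ψ.range ≤ (gam G 2).map σ := by
    rintro _ ⟨e, rfl⟩
    exact ⟨_, comm_mem_gam hc1 e, (hψ e).symm⟩
  have hr : ψ.range = (gam G 2).map σ := Subgroup.eq_of_le_of_card_ge hle (by
    rw [← Subgroup.relIndex_ker (f := σ), hσ, QuotientGroup.ker_mk', hidx, ← Subgroup.index_ker,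
      show ψ.ker = frattini G from Subgroup.ext fun e => MonoidHom.mem_ker.trans (hker e), h.idx])
  have hsurj : ∀ z ∈ gam G 2, ∃ f, ∃ k ∈ gam G 3, z = ⁅c, f⁆ * k := fun z hz' => by
    have h1 : σ z ∈ ψ.range := hr ▸ ⟨z, hz', rfl⟩
    obtain ⟨f, hf⟩ := h1
    refine ⟨f, ⁅c, f⁆⁻¹ * z, ?_, (mul_inv_cancel_left _ _).symm⟩
    rw [← hσ1, map_mul, map_inv, ← hψ, hf, inv_mul_cancel]
  -- the powers of the commutator
  have hcp : c ^ p ∈ gam G 3 := by
    obtain ⟨e0, he0⟩ : σ (c ^ p) ∈ ψ.range := hr ▸ ⟨_, hc ▸ h.pow_comm_mem hp5, rfl⟩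
    have hfix : ∀ α : MulAut G, (α = a ∨ α = b) → e0⁻¹ * α e0 ∈ frattini G := by
      intro α hα
      have hcc : c⁻¹ * α c ∈ gam G 2 := hc ▸ h.fix_comm hp5 hα
      have hg2p : σ (c⁻¹ * α c) ^ p = 1 := by
        obtain ⟨f, k, hk, he⟩ := hsurj _ hcc
        rw [he, map_mul, hσ1.2 hk, mul_one, ← hψ, ← map_pow, hker]
        exact h.pow_frattini f
      have hcs : σ (α c) = σ c * σ (c⁻¹ * α c) := by rw [← map_mul, mul_inv_cancel_left]
      have h1 : σ (α (c ^ p)) = σ (c ^ p) := by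
        rw [map_pow α, map_pow, hcs, ((hσz _ hcc (σ c)).symm).mul_pow, hg2p, mul_one, map_pow]
      have h2 : σ ⁅c, e0⁆ = σ (c ^ p) := (hψ e0).symm.trans he0
      have h3 : (⁅c, e0⁆)⁻¹ * c ^ p ∈ gam G 3 := by
        rw [← hσ1, map_mul, map_inv, h2, inv_mul_cancel]
      have h4 := hσ1.2 (gam_map α 3 h3)
      rw [map_mul, map_inv, map_mul, map_inv, inv_mul_eq_one, h1, ← he0, map_commutatorElement α,
        map_commutatorElement, hcs, commutatorElement_mul_left_eq_conj_mul,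
        commutatorElement_eq_one_iff_commute.2 (hσz _ hcc _), mul_one, mul_inv_cancel, one_mul,
        ← map_commutatorElement, ← hψ] at h4
      rw [← hker, map_mul, map_inv, h4, inv_mul_cancel]
    obtain ⟨i, j, hij⟩ := h.exists_frattini_form e0
    obtain ⟨τ, hτ⟩ : ∃ τ, τ = QuotientGroup.mk' (frattini G) := ⟨_, rfl⟩
    have hτ1 : ∀ {y}, τ y = 1 ↔ y ∈ frattini G := fun {y} => hτ ▸ QuotientGroup.eq_one_iff y
    have hτc : ∀ y z, Commute (τ y) (τ z) := fun y z => by
      rw [← commutatorElement_eq_one_iff_commute, ← map_commutatorElement, hτ1]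
      exact h.comm_frattini y z
    have heq : ∀ {x y}, x⁻¹ * y ∈ frattini G → τ y = τ x := fun {x y} hxy => by
      have := hτ1.2 hxy
      rw [map_mul, map_inv, inv_mul_eq_one] at this
      exact this.symm
    have he : τ e0 = τ v ^ i * τ w ^ j := by rw [heq hij, map_mul, map_zpow, map_zpow]
    have hαe : ∀ α : MulAut G, τ (α e0) = τ (α v) ^ i * τ (α w) ^ j := fun α => by
      have h5 : α ((v ^ i * w ^ j)⁻¹ * e0) ∈ frattini G :=
        (Subgroup.characteristic_iff_map_eq.1 (inferInstance : (frattini G).Characteristic) α).le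
          ⟨_, hij, rfl⟩
      rw [map_mul, map_inv] at h5
      rw [heq h5, map_mul α, map_mul, map_zpow α, map_zpow α, map_zpow, map_zpow]
    have hfα : ∀ α : MulAut G, (α = a ∨ α = b) → τ (α e0) = τ e0 := fun α hα => heq (hfix α hα)
    have hvj : τ v ^ j = 1 := by
      have := hfα a (Or.inl rfl)
      rw [hαe, heq h.av, heq h.aw, map_mul, he, (hτc w v).mul_zpow, ← mul_assoc, mul_eq_left] at this
      exact this
    have hwi : τ w ^ i = 1 := by
      have := hfα b (Or.inr rfl)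
      rw [hαe, heq h.bw, heq h.bv, map_mul, map_inv, he, ((hτc v w).inv_right).mul_zpow,
        mul_left_inj, mul_eq_left, inv_zpow, inv_eq_one] at this
      exact this
    have hgn : ∀ x y : G, Subgroup.closure {x, y} = ⊤ → x ∉ frattini G := by
      intro x y hxy hx
      refine h2 ?_
      have hy : Subgroup.zpowers y = ⊤ := frattini_nongenerating (top_le_iff.1 (by
        rw [← hxy, Subgroup.closure_le]
        rintro z (rfl | rfl)
        · exact Subgroup.mem_sup_right hx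
        · exact Subgroup.mem_sup_left (Subgroup.mem_zpowers _)))
      have h1 : gam G 1 = ⊥ := by
        rw [eq_bot_iff]
        show ⁅gam G 0, (⊤ : Subgroup G)⁆ ≤ _
        rw [Subgroup.commutator_le]
        intro s _ t _
        rw [Subgroup.mem_bot, commutatorElement_eq_one_iff_mul_comm]
        obtain ⟨m, rfl⟩ := Subgroup.mem_zpowers_iff.1 (hy.ge (Subgroup.mem_top s))
        obtain ⟨n, rfl⟩ := Subgroup.mem_zpowers_iff.1 (hy.ge (Subgroup.mem_top t))
        exact ((Commute.refl y).zpow_zpow m n).eq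
      exact le_bot_iff.1 (h1 ▸ (⊤ : Subgroup G).lowerCentralSeries_antitone (show 1 ≤ 2 by omega))
    have hdvd : ∀ {y : G} {n : ℤ}, y ∉ frattini G → τ y ^ n = 1 → (p : ℤ) ∣ n := fun {y n} hy hn => by
      have ho : orderOf (τ y) = p := orderOf_eq_prime (by rw [← map_pow, hτ1]; exact h.pow_frattini y)
        fun e => hy (hτ1.1 e)
      rw [← ho]
      exact orderOf_dvd_iff_zpow_eq_one.2 hn
    have hτp : ∀ y : G, τ y ^ p = 1 := fun y => by rw [← map_pow, hτ1]; exact h.pow_frattini y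
    obtain ⟨j', rfl⟩ := hdvd (hgn v w h.gen) hvj
    obtain ⟨i', rfl⟩ := hdvd (hgn w v (by rw [Set.pair_comm]; exact h.gen)) hwi
    rw [zpow_mul, zpow_mul, zpow_natCast, zpow_natCast, hτp, hτp, one_zpow, one_zpow, mul_one] at he
    rw [← hσ1, ← he0, hker]
    exact hτ1.1 he
  -- the second layer is elementary
  have hBp : ∀ f e, B f e ^ p = 1 := fun f e => by
    have h1 : ∀ n : ℕ, B (f ^ n) e = B f e ^ n := by
      intro n
      induction n with
      | zero => rw [pow_zero, pow_zero, hBK 1 (Subgroup.one_mem _)]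
      | succ n ih => rw [pow_succ, hBmul, ih, pow_succ]
    rw [← h1, hBK _ (h.frattini_eq hp5 ▸ h.pow_frattini f)]
  have hgen3 : ∀ z ∈ gam G 2, ∀ e, ∃ f, π ⁅z, e⁆ = B f e := fun z hz' e => by
    obtain ⟨f, k, hk, rfl⟩ := hsurj z hz'
    refine ⟨f, ?_⟩
    rw [hηmul _ _ (comm_mem_gam hc1 f) ((⊤ : Subgroup G).lowerCentralSeries_antitone (by omega) hk),
      hη3 k hk, mul_one, hBv]
  have h3exp : ∀ y ∈ gam G 3, π y ^ p = 1 := by
    have hle3 : gam G 3 ≤ (Subgroup.closure {y | y ∈ gam G 3 ∧ π y ^ p = 1}) := by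
      show ⁅gam G 2, (⊤ : Subgroup G)⁆ ≤ _
      rw [Subgroup.commutator_le]
      intro z hz' e _
      obtain ⟨f, hf⟩ := hgen3 z hz' e
      exact Subgroup.subset_closure ⟨comm_mem_gam hz' e, by rw [hf, hBp]⟩
    intro y hy
    have := hle3 hy
    induction this using Subgroup.closure_induction with
    | mem x hx => exact hx.2
    | one => rw [map_one, one_pow]
    | mul x x' hx hx' ihx ihx' =>
      have hmem : ∀ t, t ∈ Subgroup.closure {y | y ∈ gam G 3 ∧ π y ^ p = 1} → t ∈ gam G 3 := fun t ht =>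
        (Subgroup.closure_le _).2 (fun t ht => ht.1) ht
      rw [map_mul, (hz x (hmem x hx) (π x')).mul_pow, ihx (hmem x hx), ihx' (hmem x' hx'), one_mul]
    | inv x hx ihx =>
      rw [map_inv, inv_pow, ihx ((Subgroup.closure_le _).2 (fun t ht => ht.1) hx), inv_one]
  have h2exp : ∀ z ∈ gam G 2, π z ^ p = 1 := by
    intro z hz'
    obtain ⟨f, k, hk, rfl⟩ := hsurj z hz'
    rw [map_mul, ((hz k hk (π ⁅c, f⁆)).symm).mul_pow, h3exp k hk, mul_one, ← zpow_natCast,
      ← hpow c hc1, zpow_natCast]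
    exact hη3 _ hcp f
  -- the rank bound
  have hX : Nat.card ((gam G 3).map π) ≤ p := by
    have h1 : Nat.card ((gam G 2).map π) ≤ p ^ 3 := by
      have := CfsgLib.RankThree.rank_of_section hsr (H := gam G 2) (φ := π.subgroupMap (gam G 2))
        (π.subgroupMap_surjective _) ⊤ (fun x _ y _ => ?_) (fun x _ => ?_)
      · rwa [Subgroup.card_top] at this
      · obtain ⟨x, hx⟩ := x
        obtain ⟨y, hy⟩ := y
        obtain ⟨x', hx', rfl⟩ := hx
        obtain ⟨y', hy', rfl⟩ := hy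
        exact Subtype.ext (hcom x' ((⊤ : Subgroup G).lowerCentralSeries_antitone (by omega) hx') y'
          ((⊤ : Subgroup G).lowerCentralSeries_antitone (by omega) hy')).eq
      · obtain ⟨x, hx⟩ := x
        obtain ⟨x', hx', rfl⟩ := hx
        exact Subtype.ext (h2exp x' hx')
    rw [← Subgroup.relIndex_ker (f := π), hπ, QuotientGroup.ker_mk'] at h1 ⊢
    rw [← Subgroup.relIndex_mul_relIndex _ (gam G 3) _
      ((⊤ : Subgroup G).lowerCentralSeries_antitone (by omega))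
      ((⊤ : Subgroup G).lowerCentralSeries_antitone (by omega)), hidx, pow_succ' p 2] at h1
    exact Nat.le_of_mul_le_mul_right h1 (pow_pos hpp.pos 2)
  -- the transvections act trivially on the last layer
  have htriv : ∀ α : MulAut G, α ^ p ∈ (MulAut.conj (G := G)).range → ∀ z ∈ gam G 3, π (α z) = π z := by
    intro α hαp z hz'
    by_cases hz1 : π z = 1
    · rw [hz1, hπ1]
      exact gam_map α 4 (hπ1.1 hz1)
    have hgenX : (gam G 3).map π = Subgroup.zpowers (π z) :=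
      (Subgroup.eq_of_le_of_card_ge (Subgroup.zpowers_le.2
        (⟨z, hz', rfl⟩ : π z ∈ (gam G 3).map π))
        (by rw [Nat.card_zpowers, orderOf_eq_prime (h3exp z hz') hz1]; exact hX)).symm
    have hαX : π (α z) ∈ (gam G 3).map π := ⟨α z, gam_map α 3 hz', rfl⟩
    rw [hgenX] at hαX
    obtain ⟨k, hk⟩ := Subgroup.mem_zpowers_iff.1 hαX
    have hn : ∀ n : ℕ, π ((α ^ n) z) = π z ^ (k ^ n) := by
      intro n
      induction n with
      | zero => rw [pow_zero, pow_zero, zpow_one, MulAut.one_apply]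
      | succ n ih =>
        have hd : (z ^ (k ^ n))⁻¹ * (α ^ n) z ∈ gam G 4 := by
          rw [← hπ1, map_mul, map_inv, map_zpow, ← ih, inv_mul_cancel]
        have h5 := hπ1.2 (gam_map α 4 hd)
        rw [map_mul, map_inv, map_zpow, map_mul, map_inv, map_zpow, ← hk, inv_mul_eq_one] at h5
        rw [pow_succ', MulAut.mul_apply, ← h5, ← zpow_mul, ← pow_succ']
    obtain ⟨g, hg⟩ := hαp
    have h6 := hn p
    rw [← hg, MulAut.conj_apply, map_mul, map_mul, map_inv, ← (hz z hz' (π g)).eq,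
      mul_inv_cancel_right] at h6
    have h7 : π z ^ (k ^ p - 1) = 1 := by rw [zpow_sub_one, ← h6, mul_inv_cancel]
    rw [← orderOf_dvd_iff_zpow_eq_one, orderOf_eq_prime (h3exp z hz') hz1,
      ← ZMod.intCast_zmod_eq_zero_iff_dvd] at h7
    push_cast at h7
    rw [ZMod.pow_card, sub_eq_zero] at h7
    have h8 : (p : ℤ) ∣ k - 1 := by
      rw [← ZMod.intCast_zmod_eq_zero_iff_dvd]
      push_cast
      rw [h7, sub_self]
    rw [← orderOf_eq_prime (h3exp z hz') hz1, orderOf_dvd_iff_zpow_eq_one, zpow_sub_one,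
      mul_inv_eq_one] at h8
    exact hk.symm.trans h8
  have hequiv : ∀ α : MulAut G, (α = a ∨ α = b) → α ^ p ∈ (MulAut.conj (G := G)).range →
      ∀ e f, B (α e) (α f) = B e f := by
    intro α hα hαp e f
    obtain ⟨d, hd⟩ : ∃ d, d = c⁻¹ * α c := ⟨_, rfl⟩
    have hd2 : d ∈ gam G 2 := hd ▸ (hc ▸ h.fix_comm hp5 hα)
    rw [hBv e f, ← htriv α hαp _ (comm_mem_gam (comm_mem_gam hc1 e) f), map_commutatorElement α,
      map_commutatorElement α, show α c = c * d by rw [hd, mul_inv_cancel_left],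
      commutatorElement_mul_left_eq_conj_mul]
    have h5 : c * ⁅d, α e⁆ * c⁻¹ ∈ gam G 3 :=
      (inferInstance : (gam G 3).Normal).conj_mem _ (comm_mem_gam hd2 _) c
    rw [hηmul _ _ ((⊤ : Subgroup G).lowerCentralSeries_antitone (by omega) h5) (comm_mem_gam hc1 _),
      hη3 _ h5, one_mul, hBv]
  have hBr : ∀ {x y x' y' : G}, x⁻¹ * x' ∈ frattini G → y⁻¹ * y' ∈ frattini G → B x' y' = B x y := by
    intro x y x' y' hx hy
    rw [h.frattini_eq hp5] at hx hy
    obtain ⟨k, hk, rfl⟩ : ∃ k ∈ gam G 1, x' = x * k := ⟨_, hx, (mul_inv_cancel_left x x').symm⟩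
    obtain ⟨l, hl, rfl⟩ : ∃ l ∈ gam G 1, y' = y * l := ⟨_, hy, (mul_inv_cancel_left y y').symm⟩
    rw [hBmul, hBK k hk, mul_one, map_mul, show B x l = 1 by rw [hB]; exact hηK _ _ hl, mul_one]
  have hBz : ∀ e f g, Commute (B e f) g := fun e f g => by
    rw [hBv]; exact hz _ (comm_mem_gam (comm_mem_gam hc1 e) f) g
  have hBm : ∀ x y z, B x (y * z) = B x y * B x z := fun x y z => map_mul _ _ _
  have hvv : B v v = 1 := by
    have h5 := hequiv a (Or.inl rfl) h.apow v w
    rw [hBr h.av h.aw, hBm, mul_eq_left] at h5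
    exact h5
  have hww : B w w = 1 := by
    have h5 := hequiv b (Or.inr rfl) h.bpow v w
    rw [hBr h.bv h.bw, hBmul, mul_eq_left] at h5
    have h6 := hBmul w w⁻¹ w
    rw [mul_inv_cancel, hBK 1 (Subgroup.one_mem _), h5, mul_one] at h6
    exact h6.symm
  have hsymm : B v w = B w v := by
    have hX : ∀ e f, π (f * e * c * e⁻¹ * f⁻¹) = (π ⁅c, e⁆)⁻¹ * B e f * ((π ⁅c, f⁆)⁻¹ * π c) := by
      intro e f
      rw [hBv, ← map_inv, ← map_inv, ← map_mul, ← map_mul, ← map_mul]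
      congr 1
      simp only [commutatorElement_def]
      group
    have hsame : π (w * v * c * v⁻¹ * w⁻¹) = π (v * w * c * w⁻¹ * v⁻¹) := by
      have hcm : Commute (π ⁅v, w⁆) (π (w * v * c * v⁻¹ * w⁻¹)) := by
        refine hcom _ (comm_mem_gam (n := 0) (Subgroup.mem_top v) w) _ ?_
        rw [show w * v * c * v⁻¹ * w⁻¹ = (w * v) * c * (w * v)⁻¹ by group]
        exact (inferInstance : (gam G 1).Normal).conj_mem _ hc1 _
      calc π (w * v * c * v⁻¹ * w⁻¹)
          = π ⁅v, w⁆ * π (w * v * c * v⁻¹ * w⁻¹) * (π ⁅v, w⁆)⁻¹ := by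
            rw [hcm.eq, mul_inv_cancel_right]
        _ = _ := by
            rw [← map_inv, ← map_mul, ← map_mul]
            congr 1
            simp only [commutatorElement_def]
            group
    rw [hX, hX] at hsame
    have hk : Commute (π ⁅c, v⁆)⁻¹ (π ⁅c, w⁆)⁻¹ := (hcom _ ((⊤ : Subgroup G).lowerCentralSeries_antitone
      (by omega) (comm_mem_gam hc1 v)) _ ((⊤ : Subgroup G).lowerCentralSeries_antitone
      (by omega) (comm_mem_gam hc1 w))).inv_inv
    rw [mul_assoc, mul_assoc (π ⁅c, w⁆)⁻¹, (hBz v w _).eq, (hBz w v _).eq, ← mul_assoc,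
      ← mul_assoc (π ⁅c, w⁆)⁻¹, ← mul_assoc (π ⁅c, v⁆)⁻¹, ← mul_assoc (π ⁅c, w⁆)⁻¹, hk.eq,
      mul_right_inj] at hsame
    exact hsame
  have hvw : B v w = 1 := by
    have h5 := hequiv a (Or.inl rfl) h.apow w w
    rw [hBr h.aw h.aw, hBm, hBmul, hBmul, hww, one_mul, ← hsymm, hvv, mul_one] at h5
    rw [← pow_two] at h5
    have ho := orderOf_dvd_of_pow_eq_one h5
    have hop := orderOf_dvd_of_pow_eq_one (hBp v w)
    have h9 := Nat.dvd_gcd ho hop
    rw [show Nat.gcd 2 p = 1 from (Nat.coprime_primes Nat.prime_two hpp).2 (by omega),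
      Nat.dvd_one, orderOf_eq_one_iff] at h9
    exact h9
  have hzero : ∀ e f, B e f = 1 := by
    have hrow : ∀ x, B x v = 1 → B x w = 1 → ∀ f, B x f = 1 := fun x h1 h3 f => by
      have : Subgroup.closure {v, w} ≤ (B x).ker := by
        rw [Subgroup.closure_le]; rintro y (rfl | rfl) <;> assumption
      exact this (h.gen.ge (Subgroup.mem_top f))
    intro e
    have he := h.gen.ge (Subgroup.mem_top e)
    induction he using Subgroup.closure_induction with
    | mem x hx =>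
      rcases hx with rfl | rfl
      · exact hrow _ hvv hvw
      · exact hrow _ (hsymm ▸ hvw) hww
    | one => exact fun f => hBK 1 (Subgroup.one_mem _) f
    | mul x y _ _ hx hy => exact fun f => by rw [hBmul, hx, hy, one_mul]
    | inv x _ hx =>
      intro f
      have := hBmul x x⁻¹ f
      rw [mul_inv_cancel, hBK 1 (Subgroup.one_mem _), hx, one_mul] at this
      exact this.symm
  refine eq_bot_of_stable (le_antisymm ?_ ((⊤ : Subgroup G).lowerCentralSeries_antitone (by omega)))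
  show ⁅gam G 2, (⊤ : Subgroup G)⁆ ≤ _
  rw [Subgroup.commutator_le]
  intro z hz' e _
  obtain ⟨f, hf⟩ := hgen3 z hz' e
  rw [← hπ1, hf, hzero]

end Transv

end CfsgLib.RankThreePearl
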